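import Cfsg.Agent.Lib.Cores.Fitting
import Cfsg.Agent.Lib.Coprime.Action
import Cfsg.Agent.Lib.Coprime.SchurZassenhaus

/-!
# Groups whose subgroups of order prime to `p` are abelian: solvable subgroups
-/

set_option autoImplicit false

namespace Cfsg.Agent.GStructC.SmallPPrime

open Subgroup
open scoped commutatorElement

variable {G : Type*} [Group G] [Finite G] {p : ℕ} [hp : Fact p.Prime]

/-- All subgroups of order prime to `p` are abelian. -/
def AbPPrime (p : ℕ) (G : Type*) [Group G] : Prop :=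
  ∀ H : Subgroup G, (Nat.card H).Coprime p → IsMulCommutative H

/-- Splitting of an element into a `p`-part and a `p'`-part. -/
theorem exists_split (z : G) :
    ∃ u v : G, u * v = z ∧ u ∈ zpowers z ∧ v ∈ zpowers z ∧ (∃ k, u ^ p ^ k = 1) ∧
      (orderOf v).Coprime p := by
  have hn : orderOf z ≠ 0 := (orderOf_pos z).ne'
  set n := orderOf z
  set k := n.factorization p
  set a := p ^ k
  set b := n / a
  have hab : a * b = n := Nat.mul_div_cancel' (Nat.ordProj_dvd n p)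
  have hcop : a.Coprime b := (Nat.coprime_ordCompl hp.out hn).pow_left k
  obtain ⟨x, y, hxy⟩ : ∃ x y : ℤ, (a : ℤ) * x + b * y = 1 := by
    refine ⟨Nat.gcdA a b, Nat.gcdB a b, ?_⟩
    rw [← Nat.gcd_eq_gcd_ab, hcop.gcd_eq_one, Nat.cast_one]
  refine ⟨z ^ ((b : ℤ) * y), z ^ ((a : ℤ) * x), ?_, zpow_mem_zpowers z _, zpow_mem_zpowers z _,
    ⟨k, ?_⟩, ?_⟩
  · rw [← zpow_add, add_comm, hxy, zpow_one]
  · rw [← zpow_natCast, ← zpow_mul, show (b : ℤ) * y * (a : ℕ) = y * ((a * b : ℕ) : ℤ) by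
      push_cast; ring, hab, zpow_mul', zpow_natCast, pow_orderOf_eq_one, one_zpow]
  · refine Nat.Coprime.coprime_dvd_left (orderOf_dvd_of_pow_eq_one (n := b) ?_)
      (Nat.coprime_ordCompl hp.out hn).symm
    rw [← zpow_natCast, ← zpow_mul, show (a : ℤ) * x * (b : ℕ) = x * ((a * b : ℕ) : ℤ) by
      push_cast; ring, hab, zpow_mul', zpow_natCast, pow_orderOf_eq_one, one_zpow]

theorem coprime_orderOf_of_mem {H : Subgroup G} (hH : (Nat.card H).Coprime p) {x : G} (hx : x ∈ H) :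
    (orderOf x).Coprime p :=
  hH.coprime_dvd_left (by
    rw [← Nat.card_zpowers]
    exact card_dvd_of_le (zpowers_le.mpr hx))

theorem eq_one_of_coprime_of_pow {x : G} (hx : (orderOf x).Coprime p) {k : ℕ}
    (hk : x ^ p ^ k = 1) : x = 1 :=
  orderOf_eq_one_iff.mp (Nat.eq_one_of_dvd_coprimes (hx.pow_right k) dvd_rfl
    (orderOf_dvd_of_pow_eq_one hk))

omit hp in
theorem exists_pow_of_mem {R : Subgroup G} (hR : IsPGroup p R) {x : G} (hx : x ∈ R) :
    ∃ k, x ^ p ^ k = 1 := by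
  obtain ⟨k, hk⟩ := hR ⟨x, hx⟩
  exact ⟨k, congrArg Subtype.val hk⟩

/-- A group with a normal `p`-subgroup inherits the hypothesis on its quotient. -/
theorem abPPrime_quotient_pGroup (h : AbPPrime p G) (N : Subgroup G) [N.Normal]
    (hN : IsPGroup p N) : AbPPrime p (G ⧸ N) := by
  intro W hW
  set U := W.comap (QuotientGroup.mk' N) with hUdef
  have hNU : N ≤ U := QuotientGroup.le_comap_mk' N W
  have hcard : Nat.card U = Nat.card W * Nat.card N := by
    rw [hUdef, Cores.card_comap_mk']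
    first | rfl | ring
  obtain ⟨k, hk⟩ := IsPGroup.iff_card.mp hN
  have hidx : (N.subgroupOf U).index = Nat.card W := by
    have h1 := (N.subgroupOf U).card_mul_index
    rw [Nat.card_congr (subgroupOfEquivOfLe hNU).toEquiv, hcard, mul_comm (Nat.card W)] at h1
    exact Nat.eq_of_mul_eq_mul_left Nat.card_pos h1
  obtain ⟨K, hK⟩ := exists_left_complement'_of_coprime (N := N.subgroupOf U) (by
    rw [Nat.card_congr (subgroupOfEquivOfLe hNU).toEquiv, hidx, hk]
    exact hW.symm.pow_left k)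
  have hKc : Nat.card K = Nat.card W := by
    have h1 := hK.card_mul
    rw [Nat.card_congr (subgroupOfEquivOfLe hNU).toEquiv, hcard] at h1
    exact Nat.eq_of_mul_eq_mul_right Nat.card_pos h1
  have hc := h (K.map U.subtype) (by rwa [card_subtype, hKc])
  have hWle : ∀ w ∈ W, ∃ k ∈ K.map U.subtype, QuotientGroup.mk' N k = w := by
    intro w hw
    obtain ⟨g, rfl⟩ := QuotientGroup.mk'_surjective N w
    obtain ⟨k', hk', n, hn, hkn⟩ := mem_sup_of_normal_right.mp
      (show (⟨g, hw⟩ : U) ∈ K ⊔ N.subgroupOf U from hK.sup_eq_top ▸ mem_top _)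
    refine ⟨k', ⟨k', hk', rfl⟩, ?_⟩
    have h2 : (k' : G) * (n : G) = g := congrArg Subtype.val hkn
    rw [← h2, map_mul, show QuotientGroup.mk' N (n : G) = 1 from
      (QuotientGroup.eq_one_iff _).mpr (mem_subgroupOf.mp hn), mul_one]
  refine ⟨⟨fun ⟨a, ha⟩ ⟨b, hb⟩ => Subtype.ext ?_⟩⟩
  obtain ⟨k₁, hk₁, rfl⟩ := hWle a ha
  obtain ⟨k₂, hk₂, rfl⟩ := hWle b hb
  simp only [MulMemClass.mk_mul_mk, ← map_mul]
  exact congrArg _ (congrArg Subtype.val (hc.is_comm.comm ⟨k₁, hk₁⟩ ⟨k₂, hk₂⟩))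

/-- The structure of a solvable subgroup. -/
theorem exists_core (h : AbPPrime p G) (H : Subgroup G) [hH : Group.IsSolvable H] :
    ∃ Y : Subgroup G, (Cfsg.pCore p H).map H.subtype ≤ Y ∧ Y ≤ H ∧
      H ≤ normalizer (Y : Set G) ∧
      (∀ x ∈ H, (orderOf x).Coprime p → x ∈ Y) ∧
      (∀ x ∈ Y, ∀ y ∈ Y, ⁅x, y⁆ ∈ (Cfsg.pCore p H).map H.subtype) ∧
      (∀ x ∈ Y, ∀ k : ℕ, x ^ p ^ k = 1 → x ∈ (Cfsg.pCore p H).map H.subtype) ∧
      (∀ r ∈ H, (∀ y ∈ Y, ⁅r, y⁆ ∈ (Cfsg.pCore p H).map H.subtype) → r ∈ Y) := by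
  set X := Cfsg.pCore p H
  set π := QuotientGroup.mk' X with hπ
  have hsolv : Group.IsSolvable (H ⧸ X) :=
    Group.isSolvable_of_surjective (f := π) (QuotientGroup.mk'_surjective X)
  have hHab : AbPPrime p H := by
    intro W hW
    have := h (W.map H.subtype) (by rwa [card_subtype])
    refine ⟨⟨fun a b => Subtype.ext (Subtype.ext ?_)⟩⟩
    have h2 := congrArg Subtype.val
      (this.is_comm.comm (⟨((a : H) : G), a, a.2, rfl⟩ : ↥(W.map H.subtype))
        ⟨((b : H) : G), b, b.2, rfl⟩)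
    simpa using h2
  have hab := abPPrime_quotient_pGroup hHab X (Cores.pCore_isPGroup p)
  set F := Cfsg.fittingSubgroup (H ⧸ X) with hF
  have hFcop : (Nat.card F).Coprime p := by
    refine Nat.Coprime.symm ((hp.out.coprime_iff_not_dvd).mpr fun hd => ?_)
    haveI : Group.IsNilpotent F := Cores.fittingSubgroup_isNilpotent
    obtain ⟨P⟩ := (inferInstance : Nonempty (Sylow p F))
    have hPn : (P : Subgroup F).Normal :=
      P.normal_of_normalizerCondition normalizerCondition_of_isNilpotent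
    haveI := P.characteristic_of_normal hPn
    haveI : ((P : Subgroup F).map F.subtype).Normal := Cores.normal_map_subtype F (P : Subgroup F)
    have h1 := Cores.le_pCore (P.2.map F.subtype)
    rw [Cores.pCore_quotient_self, le_bot_iff, map_eq_bot_iff_of_injective _ F.subtype_injective]
      at h1
    exact P.ne_bot_of_dvd_card hd h1
  have hYcop : ∀ x : H, (orderOf x).Coprime p → π x ∈ F := by
    intro x hx
    have hWc : (Nat.card ↥(zpowers (π x) ⊔ F : Subgroup (H ⧸ X))).Coprime p :=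
      Nat.Coprime.coprime_dvd_left (Cores.card_sup_dvd_mul _ F) (by
        rw [Nat.card_zpowers]
        exact (hx.coprime_dvd_left (orderOf_map_dvd π x)).mul_left hFcop)
    have hc := hab _ hWc
    refine Cores.centralizer_fittingSubgroup_le (mem_centralizer_iff.mpr fun f hf => ?_)
    exact congrArg Subtype.val (hc.is_comm.comm ⟨f, mem_sup_right hf⟩
      ⟨π x, mem_sup_left (mem_zpowers _)⟩)
  have hFab := hab F hFcop
  refine ⟨(F.comap π).map H.subtype, map_mono (fun x hx => ?_), map_subtype_le _, ?_, ?_, ?_, ?_,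
    ?_⟩
  · rw [mem_comap, show π x = 1 from (QuotientGroup.eq_one_iff x).mpr hx]
    exact one_mem F
  · refine le_normalizer_iff.mpr ?_
    rintro g hg _ ⟨y, hy, rfl⟩
    exact ⟨⟨g, hg⟩ * y * ⟨g, hg⟩⁻¹, (inferInstance : (F.comap π).Normal).conj_mem y hy _, rfl⟩
  · exact fun x hx hxc => ⟨⟨x, hx⟩, hYcop ⟨x, hx⟩ (by rwa [Subgroup.orderOf_mk]), rfl⟩
  · rintro _ ⟨a, ha, rfl⟩ _ ⟨b, hb, rfl⟩
    refine ⟨⁅a, b⁆, (QuotientGroup.eq_one_iff _).mp ?_, map_commutatorElement _ a b⟩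
    show π ⁅a, b⁆ = 1
    rw [map_commutatorElement, commutatorElement_eq_one_iff_mul_comm]
    exact congrArg Subtype.val (hFab.is_comm.comm ⟨π a, ha⟩ ⟨π b, hb⟩)
  · rintro _ ⟨a, ha, rfl⟩ k hk
    refine ⟨a, (QuotientGroup.eq_one_iff _).mp ?_, rfl⟩
    refine eq_one_of_coprime_of_pow (coprime_orderOf_of_mem hFcop ha) (k := k) ?_
    have h3 : a ^ p ^ k = 1 := Subtype.ext (by rw [Subgroup.coe_pow, Subgroup.coe_one]; exact hk)
    rw [← QuotientGroup.mk_pow, h3, QuotientGroup.mk_one]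
  · intro r hr hcomm
    refine ⟨⟨r, hr⟩, Cores.centralizer_fittingSubgroup_le (mem_centralizer_iff.mpr fun f hf => ?_),
      rfl⟩
    obtain ⟨y, rfl⟩ := QuotientGroup.mk'_surjective X f
    obtain ⟨c, hc, hce⟩ := hcomm y ⟨y, hf, rfl⟩
    have h2 : ⁅(⟨r, hr⟩ : H), y⁆ = c := Subtype.ext hce.symm
    symm
    rw [← commutatorElement_eq_one_iff_mul_comm, ← map_commutatorElement, h2]
    exact (QuotientGroup.eq_one_iff c).mpr hc

end Cfsg.Agent.GStructC.SmallPPrime
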