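import Cfsg.Agent.GStructC.SmallPPrime.Ctx

/-!
# Conjugacy and fusion for the abelian subgroup `A`
-/

set_option autoImplicit false

namespace Cfsg.Agent.GStructC.SmallPPrime.Ctx

open Subgroup Cfsg.Agent
open scoped commutatorElement Pointwise

variable {G : Type*} [Group G] [Finite G] {p : ℕ} [hp : Fact p.Prime] (c : Ctx p G)
include c

/-- A subgroup of `H` of order prime to `p` is conjugate into `A` by an element of `O_p(H)`. -/
theorem exists_conj_le {H V : Subgroup G} (hH : H ≠ ⊤) (hAH : c.A ≤ H) (hVH : V ≤ H)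
    (hVc : (Nat.card V).Coprime p) :
    ∃ x ∈ opG p H, ∀ v ∈ V, x * v * x⁻¹ ∈ c.A := by
  set X := opG p H
  have hXn := le_normalizer_opG (p := p) H
  set K := c.A ⊓ (X ⊔ V) with hK
  have hVn : V ≤ normalizer (X : Set G) := hVH.trans hXn
  have hKn : K ≤ normalizer (X : Set G) := inf_le_left.trans (hAH.trans hXn)
  have heq : X ⊔ V = X ⊔ K := by
    refine le_antisymm (sup_le le_sup_left fun v hv => ?_) (sup_le le_sup_left inf_le_right)
    obtain ⟨a, ha, hav⟩ := c.exists_mem_A hH hAH (hVH hv) (coprime_orderOf_of_mem hVc hv)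
    have haK : a ∈ K := by
      refine ⟨ha, ?_⟩
      show a ∈ X ⊔ V
      rw [show a = v * (a⁻¹ * v)⁻¹ by group]
      exact (X ⊔ V).mul_mem (mem_sup_right hv) ((X ⊔ V).inv_mem (mem_sup_left hav))
    rw [show v = a * (a⁻¹ * v) by group]
    exact mul_mem (mem_sup_right haK) (mem_sup_left hav)
  obtain ⟨k, hk⟩ := IsPGroup.iff_card.mp (opG_isPGroup (p := p) H)
  haveI := c.ab V hVc
  obtain ⟨x, hx, hxe⟩ := Coprime.exists_conj_eq_of_sup_eq hVn hKn heq
    (by rw [hk]; exact hVc.symm.pow_left k)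
    (by rw [hk]; exact (c.hAcop.coprime_dvd_left (card_dvd_of_le inf_le_left)).symm.pow_left k)
    (Or.inr (Coprime.isSolvable_of_isMulCommutative V))
  refine ⟨x, hx, fun v hv => ?_⟩
  have h : x * v * x⁻¹ ∈ MulAut.conj x • V :=
    Subgroup.smul_mem_pointwise_smul v (MulAut.conj x) V hv
  rw [hxe] at h
  exact h.1

omit hp in
theorem mem_normalizer_A {g : G} (h : ∀ a ∈ c.A, g * a * g⁻¹ ∈ c.A) :
    g ∈ normalizer (c.A : Set G) :=
  mem_normalizer_of_conj_mem h

/-- Conjugates of `A` inside `H` are conjugate by `O_p(H)`. -/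
theorem exists_mul_mem_normalizer {H : Subgroup G} (hH : H ≠ ⊤) (hAH : c.A ≤ H) {g : G}
    (hg : ∀ a ∈ c.A, g * a * g⁻¹ ∈ H) : ∃ x ∈ opG p H, x * g ∈ normalizer (c.A : Set G) := by
  obtain ⟨x, hx, hxV⟩ := c.exists_conj_le hH hAH (V := c.A.map (MulAut.conj g).toMonoidHom)
    (by rintro _ ⟨a, ha, rfl⟩; exact hg a ha)
    (by rw [Transfer.Fusion.card_map_conj]; exact c.hAcop)
  refine ⟨x, hx, c.mem_normalizer_A fun a ha => ?_⟩
  have h := hxV _ ⟨a, ha, rfl⟩
  rw [mul_inv_rev]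
  simpa [mul_assoc] using h

omit hp in
theorem A_le_centralizer_Q : c.A ≤ centralizer ((c.Q : Subgroup G) : Set G) := fun a ha =>
  mem_centralizer_iff.mpr fun x hx => c.A_comm (c.hQA hx) ha

omit hp in
theorem Q_ne_bot : (c.Q : Subgroup G) ≠ ⊥ := by
  haveI := Fact.mk c.hq
  exact c.Q.ne_bot_of_dvd_card c.hqd

omit hp in
/-- A `q`-element of `A` lies in `Q`. -/
theorem mem_Q {x : G} (hx : x ∈ c.A) {k : ℕ} (hk : x ^ c.q ^ k = 1) :
    x ∈ (c.Q : Subgroup G) := by
  haveI := Fact.mk c.hq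
  have hX : IsPGroup c.q (zpowers x) := by
    intro ⟨y, hy⟩
    obtain ⟨i, rfl⟩ := mem_zpowers_iff.mp hy
    exact ⟨k, Subtype.ext (by
      rw [Subgroup.coe_pow, Subgroup.coe_one, ← zpow_natCast, ← zpow_mul, mul_comm, zpow_mul,
        zpow_natCast, hk, one_zpow])⟩
  have hn : zpowers x ≤ normalizer ((c.Q : Subgroup G) : Set G) :=
    zpowers_le.mpr (mem_normalizer_of_conj_mem fun a ha => by
      rwa [c.A_comm hx (c.hQA ha), mul_inv_cancel_right])
  have h := c.Q.3 (hX.to_sup_of_normal_right' c.Q.2 hn) le_sup_right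
  exact h ▸ mem_sup_left (mem_zpowers x)

omit hp in
theorem normalizer_A_le_normalizer_Q :
    normalizer (c.A : Set G) ≤ normalizer ((c.Q : Subgroup G) : Set G) := fun n hn =>
  mem_normalizer_of_conj_mem fun x hx => by
    obtain ⟨k, hk⟩ := exists_pow_of_mem c.Q.2 hx
    exact c.mem_Q ((le_normalizer_iff.mp le_rfl) n hn x (c.hQA hx)) (k := k)
      (by rw [conj_pow, hk, mul_one, mul_inv_cancel])

/-- The focal subgroup theorem for `Q`: `Q` is generated by commutators with `N(A)`. -/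
theorem Q_le_of_commutator_mem {F : Subgroup G}
    (h : ∀ x ∈ (c.Q : Subgroup G), ∀ n ∈ normalizer (c.A : Set G), ⁅x, n⁆ ∈ F) :
    (c.Q : Subgroup G) ≤ F := by
  haveI := Fact.mk c.hq
  have htop : commutator G = ⊤ := by
    refine (c.simple _ inferInstance).resolve_left fun h0 => c.notComm ⟨⟨fun a b => ?_⟩⟩
    rw [← commutatorElement_eq_one_iff_mul_comm, ← Subgroup.mem_bot, ← h0]
    exact commutator_mem_commutator (mem_top a) (mem_top b)
  have hle : commutator G ⊓ (c.Q : Subgroup G) ≤ F := by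
    refine Transfer.Fusion.focal_le_of_fusion c.Q fun x hx g hg => ?_
    have hcomm : ∀ z ∈ c.Q, ∀ y ∈ c.Q, z * y * z⁻¹ = y := fun z hz y hy => by
      rw [c.A_comm (c.hQA hz) (c.hQA hy), mul_inv_cancel_right]
    obtain ⟨n, hn, hne⟩ := Transfer.Fusion.burnside_fusion_set c.Q (X := {x}) (Y := {g * x * g⁻¹})
      (fun z hz => by simp [hcomm z hz x hx]) (fun z hz => by simp [hcomm z hz _ hg])
      (g := g) (by simp)
    have hne' : n * x * n⁻¹ = g * x * g⁻¹ := by simpa using hne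
    obtain ⟨z, hz, hzn⟩ := c.exists_mul_mem_normalizer (c.centralizer_ne_top c.Q_ne_bot)
      c.A_le_centralizer_Q (g := n) fun a ha => mem_centralizer_iff.mpr fun y hy => by
        have hy' : n⁻¹ * y * n ∈ (c.Q : Subgroup G) := (mem_normalizer_iff''.mp hn y).mp hy
        have e := c.A_comm (c.hQA hy') ha
        calc y * (n * a * n⁻¹) = n * (n⁻¹ * y * n * a) * n⁻¹ := by group
          _ = n * (a * (n⁻¹ * y * n)) * n⁻¹ := by rw [e]
          _ = n * a * n⁻¹ * y := by group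
    refine ⟨z * n, ?_, h x hx _ hzn⟩
    have hzc := mem_centralizer_iff.mp (opG_le _ hz) _ hg
    calc z * n * x * (z * n)⁻¹ = z * (n * x * n⁻¹) * z⁻¹ := by group
      _ = z * (g * x * g⁻¹) * z⁻¹ := by rw [hne']
      _ = g * x * g⁻¹ := by rw [← hzc, mul_inv_cancel_right]
  rwa [htop, top_inf_eq] at hle

/-- The quotient of `N(A)` by `A` is a `p`-group. -/
theorem exists_pow_mem_A {n : G} (hn : n ∈ normalizer (c.A : Set G)) :
    ∃ k, n ^ p ^ k ∈ c.A := by
  obtain ⟨u, v, huv, hu, hv, ⟨k, hk⟩, hvc⟩ := exists_split (p := p) n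
  have hvA : v ∈ c.A := c.mem_A hvc fun a ha =>
    (le_normalizer_iff.mp le_rfl) v (zpowers_le.mpr hn hv) a ha
  refine ⟨k, ?_⟩
  have hcm : Commute u v := by
    obtain ⟨i, rfl⟩ := mem_zpowers_iff.mp hu
    obtain ⟨j, rfl⟩ := mem_zpowers_iff.mp hv
    exact Commute.zpow_zpow (Commute.refl n) i j
  rw [← huv, hcm.mul_pow, hk, one_mul]
  exact pow_mem hvA _

/-- No nontrivial element of `Q` is central in `N(A)`. -/
theorem eq_one_of_centralizes_normalizer {x : G} (hx : x ∈ (c.Q : Subgroup G))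
    (hc : ∀ n ∈ normalizer (c.A : Set G), n * x = x * n) : x = 1 := by
  classical
  set N := normalizer (c.A : Set G)
  set A' := c.A.subgroupOf N
  haveI : A'.Normal := normal_subgroupOf_of_le_normalizer le_rfl
  have hAN : c.A ≤ N := le_normalizer
  haveI : IsMulCommutative A' :=
    ⟨⟨fun a b => Subtype.ext (Subtype.ext (c.A_comm a.2 b.2))⟩⟩
  letI : CommGroup ↥c.A :=
    { (inferInstance : Group ↥c.A) with mul_comm := fun a b => Subtype.ext (c.A_comm a.2 b.2) }
  let φ : A' →* ↥c.A := (subgroupOfEquivOfLe hAN).toMonoidHom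
  let τ : N →* ↥c.A := φ.transfer
  set F : Subgroup G := (τ.ker.map N.subtype) with hF
  have hQF : (c.Q : Subgroup G) ≤ F := c.Q_le_of_commutator_mem fun y hy n hn =>
    ⟨⁅(⟨y, hAN (c.hQA hy)⟩ : N), ⟨n, hn⟩⁆, by
      show τ _ = 1
      rw [map_commutatorElement, commutatorElement_eq_one_iff_mul_comm]
      exact mul_comm' _ _, map_commutatorElement _ _ _⟩
  obtain ⟨x', hx', hxe⟩ := hQF hx
  have hx'' : x' = ⟨x, hAN (c.hQA hx)⟩ := Subtype.ext hxe
  subst hx''
  have hxA : (⟨x, hAN (c.hQA hx)⟩ : N) ∈ A' := c.hQA hx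
  have hkey : ∀ (k : ℕ) (g : N), g⁻¹ * (⟨x, hAN (c.hQA hx)⟩ : N) ^ k * g ∈ A' →
      g⁻¹ * (⟨x, hAN (c.hQA hx)⟩ : N) ^ k * g = (⟨x, hAN (c.hQA hx)⟩ : N) ^ k := by
    intro k g _
    have : Commute g (⟨x, hAN (c.hQA hx)⟩ : N) := Subtype.ext (hc g g.2)
    rw [mul_assoc, ← (this.pow_right k).eq, inv_mul_cancel_left]
  have h1 := MonoidHom.transfer_eq_pow φ _ hkey
  rw [show φ.transfer (⟨x, hAN (c.hQA hx)⟩ : N) = 1 from hx'] at h1
  have h2 : x ^ A'.index = 1 := by simpa [φ] using (congrArg Subtype.val h1).symm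
  obtain ⟨j, hj⟩ : ∃ j, A'.index = p ^ j := by
    have hq : IsPGroup p (N ⧸ A') := by
      intro y
      obtain ⟨⟨n, hn⟩, rfl⟩ := QuotientGroup.mk'_surjective A' y
      obtain ⟨k, hk⟩ := c.exists_pow_mem_A hn
      exact ⟨k, by rw [← map_pow]; exact (QuotientGroup.eq_one_iff _).mpr hk⟩
    exact IsPGroup.iff_card.mp hq
  exact eq_one_of_coprime_of_pow (coprime_orderOf_of_mem c.hAcop (c.hQA hx)) (hj ▸ h2)

/-- `p` divides no order of an automorphism group of a cyclic `q`-subgroup. -/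
theorem centralizes_of_cyclic {C : Subgroup G} (hC : C ≤ (c.Q : Subgroup G)) [hCc : IsCyclic C]
    {u : G} {k : ℕ} (hu : u ^ p ^ k = 1) (hun : u ∈ normalizer (C : Set G)) :
    ∀ x ∈ C, u * x * u⁻¹ = x := by
  haveI := Fact.mk c.hq
  intro x hx
  set φ := C.normalizerMonoidHom with hφ
  obtain ⟨a, ha⟩ := IsPGroup.iff_card.mp (c.Q.2.to_le hC)
  have hcop : (Nat.card (MulAut C)).Coprime p := by
    rw [IsCyclic.card_mulAut, ha]
    refine Nat.Coprime.symm ((hp.out.coprime_iff_not_dvd).mpr fun hd => ?_)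
    rcases Nat.eq_zero_or_pos a with rfl | ha0
    · rw [pow_zero, Nat.totient_one] at hd
      exact hp.out.not_dvd_one hd
    · rw [Nat.totient_prime_pow c.hq ha0] at hd
      rcases hp.out.dvd_mul.mp hd with h | h
      · exact c.hqp ((Nat.prime_dvd_prime_iff_eq hp.out c.hq).mp (hp.out.dvd_of_dvd_pow h)).symm
      · have h1 := Nat.le_of_dvd (by have := c.five; omega) (c.small _ c.hq c.hqd c.hqp)
        have h2 := c.hq.two_le
        have := Nat.le_of_dvd (by omega) h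
        omega
  have h1 : φ ⟨u, hun⟩ = 1 := by
    refine orderOf_eq_one_iff.mp (Nat.eq_one_of_dvd_coprimes (hcop.pow_right k)
      (orderOf_dvd_natCard _) (orderOf_dvd_of_pow_eq_one ?_))
    rw [← map_pow, show (⟨u, hun⟩ : ↥(normalizer (C : Set G))) ^ p ^ k = 1 from
      Subtype.ext (by rw [Subgroup.coe_pow, Subgroup.coe_one]; exact hu), map_one]
  exact congrArg Subtype.val (DFunLike.congr_fun h1 (⟨x, hx⟩ : C))

end Cfsg.Agent.GStructC.SmallPPrime.Ctx
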