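import Cfsg.Agent.GStructC.SmallPPrime.Normal

/-!
# The counting argument
-/

set_option autoImplicit false

namespace Cfsg.Agent.GStructC.SmallPPrime

open Subgroup Cfsg.Agent

universe u

variable {G : Type u} [Group G] [Finite G] {p : ℕ} [hp : Fact p.Prime]

omit hp in
theorem orderOf_conj (x v : G) : orderOf (x * v * x⁻¹) = orderOf v :=
  (orderOf_injective (MulAut.conj x).toMonoidHom (MulAut.conj x).injective v)

namespace Ctx

variable (c : Ctx p G)
include c

/-- The elements of order prime to `p` centralizing a nontrivial `p`-element lie in an abelian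
subgroup of order prime to `p` of its centralizer. -/
theorem exists_abelian_core {u : G} {k : ℕ} (hk : u ^ p ^ k = 1) (hu1 : u ≠ 1) :
    ∃ B : Subgroup G, B ≤ centralizer {u} ∧ (Nat.card B).Coprime p ∧
      ∀ v : G, (orderOf v).Coprime p → u * v = v * u → v ∈ B := by
  by_cases h : ∀ v : G, (orderOf v).Coprime p → u * v = v * u → v = 1
  · exact ⟨⊥, bot_le, by simp, fun v hv huv => mem_bot.mpr (h v hv huv)⟩
  push Not at h
  obtain ⟨v, hv, huv, hv1⟩ := h
  set o := orderOf v with hodef
  have ho : o ≠ 1 := fun e => hv1 (orderOf_eq_one_iff.mp e)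
  set r := o.minFac with hrdef
  have hr : r.Prime := Nat.minFac_prime ho
  have hro : r ∣ o := Nat.minFac_dvd o
  have hrp : r ≠ p := fun e => hr.ne_one (Nat.eq_one_of_dvd_coprimes hv hro (dvd_of_eq e))
  set b := v ^ (o / r) with hbdef
  have hb1 : b ≠ 1 := fun e => by
    have hpos : 0 < o / r := Nat.div_pos (Nat.le_of_dvd (orderOf_pos v) hro) hr.pos
    exact absurd (Nat.le_of_dvd hpos (orderOf_dvd_of_pow_eq_one e))
      (not_le.mpr (Nat.div_lt_self (orderOf_pos v) hr.one_lt))
  have hbr : b ^ r ^ 1 = 1 := by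
    rw [pow_one, hbdef, ← pow_mul, Nat.div_mul_cancel hro, hodef, pow_orderOf_eq_one]
  obtain ⟨c', hq, hV⟩ := c.exists_ctx hr hrp (hro.trans (orderOf_dvd_natCard v))
    (c.isPGroup_zpowers hbr)
  have hub : u * b = b * u := ((show Commute u v from huv).pow_right _).eq
  have hle := c'.centralizer_le_M_of_commute hk hu1 (hV (mem_zpowers b)) hb1 hub
  refine ⟨centralizer {u} ⊓ c'.A, inf_le_left,
    c'.hAcop.coprime_dvd_left (card_dvd_of_le inf_le_right), fun w hw huw => ?_⟩
  have hwC : w ∈ centralizer {u} := mem_centralizer_singleton_iff.mpr huw.symm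
  exact ⟨hwC, c'.mem_A_of_mem_M (hle hwC) hw⟩

theorem sylow_lt_normalizer (P : Sylow p G) :
    2 * Nat.card (P : Subgroup G) ≤ Nat.card (normalizer ((P : Subgroup G) : Set G)) := by
  obtain ⟨h, hh, hhc, hh1⟩ := c.exists_normalizing P
  set N := normalizer ((P : Subgroup G) : Set G)
  have hle : (P : Subgroup G) ≤ N := le_normalizer
  obtain ⟨d, hd⟩ := card_dvd_of_le hle
  have hpos : 0 < d := Nat.pos_of_ne_zero fun e => by
    rw [e, mul_zero] at hd
    exact Nat.card_pos.ne' hd
  have hne : d ≠ 1 := fun e => by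
    rw [e, mul_one] at hd
    have heq := eq_of_le_of_card_ge hle hd.le
    obtain ⟨k, hk⟩ := exists_pow_of_mem P.2 (heq ▸ hh)
    exact hh1 (eq_one_of_coprime_of_pow hhc hk)
  rw [hd, mul_comm 2]
  exact Nat.mul_le_mul_left _ (by omega)

theorem mul_card_le_card_normalizer :
    p * Nat.card c.A ≤ Nat.card (normalizer (c.A : Set G)) := by
  set N := normalizer (c.A : Set G)
  set A' := c.A.subgroupOf N
  haveI : A'.Normal := normal_subgroupOf_of_le_normalizer le_rfl
  have hq : IsPGroup p (N ⧸ A') := by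
    intro y
    obtain ⟨⟨n, hn⟩, rfl⟩ := QuotientGroup.mk'_surjective A' y
    obtain ⟨k, hk⟩ := c.exists_pow_mem_A hn
    exact ⟨k, by rw [← map_pow]; exact (QuotientGroup.eq_one_iff _).mpr hk⟩
  obtain ⟨j, hj⟩ := IsPGroup.iff_card.mp hq
  have hj0 : j ≠ 0 := fun e => c.not_normalizer_A_le (by
    rw [e, pow_zero] at hj
    exact subgroupOf_eq_top.mp (index_eq_one.mp hj))
  rw [← A'.card_mul_index, Nat.card_congr (subgroupOfEquivOfLe le_normalizer).toEquiv,
    mul_comm p]
  refine Nat.mul_le_mul_left _ ?_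
  show p ≤ A'.index
  rw [show A'.index = p ^ j from hj]
  calc p = p ^ 1 := (pow_one p).symm
    _ ≤ p ^ j := Nat.pow_le_pow_right hp.out.pos (by omega)

/-- The count gives the contradiction. -/
theorem false_of_ctx : False := by
  classical
  cases nonempty_fintype G
  set g := Fintype.card G with hg
  have hgNat : Nat.card G = g := Nat.card_eq_fintype_card
  obtain ⟨P⟩ := (inferInstance : Nonempty (Sylow p G))
  set N := normalizer ((P : Subgroup G) : Set G) with hNdef
  set W : Finset G := Finset.univ.filter fun v => (orderOf v).Coprime p with hW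
  set U : Finset G := Finset.univ.filter fun u => (∃ k, u ^ p ^ k = 1) ∧ u ≠ 1 with hU
  let V : G → Finset G := fun u => W.filter fun v => u * v = v * u
  let X : G → Finset G := fun u =>
    Finset.univ.filter fun x => x * u * x⁻¹ ∈ (P : Subgroup G)
  -- splitting
  have h1 : g ≤ W.card + ∑ u ∈ U, (V u).card := by
    rw [← Finset.card_sigma]
    have hsplit : (Wᶜ).card ≤ (U.sigma V).card := by
      choose a b hab ha hb hpa hbc using fun z : G => exists_split (p := p) z
      refine Finset.card_le_card_of_injOn (fun z => ⟨a z, b z⟩) (fun z hz => ?_)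
        fun z _ z' _ he => ?_
      · have hz' : ¬ (orderOf z).Coprime p := by simpa [hW] using hz
        have hcm : a z * b z = b z * a z := by
          obtain ⟨i, hi⟩ := mem_zpowers_iff.mp (ha z)
          obtain ⟨i', hi'⟩ := mem_zpowers_iff.mp (hb z)
          rw [← hi, ← hi', ← zpow_add, ← zpow_add, add_comm]
        have ha1 : a z ≠ 1 := fun e => hz' (by
          have e' := hab z
          rw [e, one_mul] at e'
          exact e' ▸ hbc z)
        simpa [hU, hW, V] using ⟨⟨hpa z, ha1⟩, hbc z, hcm⟩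
      · simp only [Sigma.mk.injEq, heq_eq_eq] at he
        rw [← hab z, ← hab z', he.1, he.2]
    have := Finset.card_add_card_compl W
    omega
  -- centralizers of `p`-elements
  have h2 : ∀ u ∈ U, Nat.card N * (V u).card ≤ (X u).card := by
    intro u hu
    obtain ⟨⟨k, hk⟩, hu1⟩ : (∃ k, u ^ p ^ k = 1) ∧ u ≠ 1 := by simpa [hU] using hu
    obtain ⟨R, hR⟩ := (c.isPGroup_zpowers hk).exists_le_sylow
    obtain ⟨x₀, hx₀⟩ := MulAction.exists_smul_eq G R P
    set u₀ := x₀ * u * x₀⁻¹ with hu₀
    have hu₀P : u₀ ∈ (P : Subgroup G) := by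
      rw [← hx₀]
      refine Transfer.Fusion.mem_smul_sylow_iff.mpr ?_
      rw [hu₀, show x₀⁻¹ * (x₀ * u * x₀⁻¹) * x₀ = u by group]
      exact hR (mem_zpowers u)
    have hu₀1 : u₀ ≠ 1 := fun e => hu1 (conj_eq_one_iff.mp e)
    set D := N ⊓ centralizer ({u₀} : Set G) with hD
    have hDp : ∀ d ∈ D, ∃ j, d ^ p ^ j = 1 := fun d hd => by
      obtain ⟨a, b, hab, ha, hb, hpa, hbc⟩ := exists_split (p := p) d
      have hb1 : b = 1 := c.eq_one_of_fixes P (zpowers_le.mpr hd.1 hb) hbc hu₀P hu₀1
        (mem_centralizer_singleton_iff.mp (zpowers_le.mpr hd.2 hb)).symm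
      rw [← hab, hb1, mul_one]
      exact hpa
    have hDP : IsPGroup p D := fun ⟨d, hd⟩ => by
      obtain ⟨j, hj⟩ := hDp d hd
      exact ⟨j, Subtype.ext (by simpa using hj)⟩
    obtain ⟨B, hB, hBc, hVB⟩ := c.exists_abelian_core hk hu1
    have hVB' : (V u).card ≤ Nat.card B := by
      rw [Nat.card_eq_fintype_card, ← Finset.card_univ]
      refine Finset.card_le_card_of_injOn (fun v => if hv : v ∈ B then ⟨v, hv⟩ else 1)
        (fun v _ => Finset.mem_univ _) fun v hv v' hv' he => ?_
      have hm : ∀ w ∈ V u, w ∈ B := fun w hw => by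
        obtain ⟨hw1, hw2⟩ : (orderOf w).Coprime p ∧ u * w = w * u := by simpa [V, hW] using hw
        exact hVB w hw1 hw2
      simpa [hm v hv, hm v' hv'] using he
    set C := centralizer ({u} : Set G) with hC
    set D' := D.map (MulAut.conj x₀⁻¹).toMonoidHom with hD'
    have hD'C : D' ≤ C := by
      rintro _ ⟨d, hd, rfl⟩
      have e := mem_centralizer_singleton_iff.mp hd.2
      refine mem_centralizer_singleton_iff.mpr ?_
      simp only [MulEquiv.coe_toMonoidHom, MulAut.conj_apply, inv_inv]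
      calc x₀⁻¹ * d * x₀ * u = x₀⁻¹ * (d * u₀) * x₀ := by rw [hu₀]; group
        _ = x₀⁻¹ * (u₀ * d) * x₀ := by rw [e]
        _ = u * (x₀⁻¹ * d * x₀) := by rw [hu₀]; group
    have hcardD' : Nat.card D' = Nat.card D := Transfer.Fusion.card_map_conj D x₀⁻¹
    have hBD : Nat.card B * Nat.card D ≤ Nat.card C := by
      obtain ⟨j, hj⟩ := IsPGroup.iff_card.mp hDP
      refine Nat.le_of_dvd Nat.card_pos (Nat.Coprime.mul_dvd_of_dvd_of_dvd ?_
        (card_dvd_of_le hB) (hcardD' ▸ card_dvd_of_le hD'C))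
      rw [hj]
      exact hBc.pow_right j
    have hND : Nat.card N * Nat.card C ≤ Nat.card D * (X u).card := by
      rw [← Nat.card_prod, Nat.card_eq_fintype_card, ← Finset.card_univ]
      have hmaps : ∀ a : N × C, (a.1 : G) * x₀ * (a.2 : G) ∈ X u := fun a => by
        have e := mem_centralizer_singleton_iff.mp a.2.2
        have h := (mem_normalizer_iff.mp a.1.2 u₀).mp hu₀P
        simp only [X, Finset.mem_filter, Finset.mem_univ, true_and]
        convert h using 1
        rw [hu₀]
        calc (a.1 : G) * x₀ * (a.2 : G) * u * ((a.1 : G) * x₀ * (a.2 : G))⁻¹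
            = (a.1 : G) * x₀ * ((a.2 : G) * u * (a.2 : G)⁻¹) * x₀⁻¹ * (a.1 : G)⁻¹ := by group
          _ = (a.1 : G) * (x₀ * u * x₀⁻¹) * (a.1 : G)⁻¹ := by
              rw [e, mul_inv_cancel_right]; group
      refine (Finset.card_le_mul_card_image (f := fun a : N × C => (a.1 : G) * x₀ * (a.2 : G))
        Finset.univ (Nat.card D) ?_).trans (Nat.mul_le_mul_left _ (Finset.card_le_card ?_))
      · intro y hy
        obtain ⟨⟨n, z⟩, -, rfl⟩ := Finset.mem_image.mp hy
        rw [Nat.card_eq_fintype_card, ← Fintype.card_coe]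
        have hmem : ∀ a : N × C, (a.1 : G) * x₀ * (a.2 : G) = (n : G) * x₀ * (z : G) →
            (n : G)⁻¹ * a.1 ∈ D := fun a ha => by
          refine mem_inf.mpr ⟨N.mul_mem (N.inv_mem n.2) a.1.2, mem_centralizer_singleton_iff.mpr ?_⟩
          have hz : (z : G) * (a.2 : G)⁻¹ ∈ C := mul_mem z.2 (inv_mem a.2.2)
          have e : (n : G)⁻¹ * a.1 = x₀ * ((z : G) * (a.2 : G)⁻¹) * x₀⁻¹ := by
            rw [show (a.1 : G) = (n : G) * x₀ * z * (a.2 : G)⁻¹ * x₀⁻¹ by rw [← ha]; group]
            group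
          rw [e, hu₀]
          have e2 := mem_centralizer_singleton_iff.mp hz
          calc x₀ * ((z : G) * (a.2 : G)⁻¹) * x₀⁻¹ * (x₀ * u * x₀⁻¹)
              = x₀ * ((z : G) * (a.2 : G)⁻¹ * u) * x₀⁻¹ := by group
            _ = x₀ * (u * ((z : G) * (a.2 : G)⁻¹)) * x₀⁻¹ := by rw [e2]
            _ = x₀ * u * x₀⁻¹ * (x₀ * ((z : G) * (a.2 : G)⁻¹) * x₀⁻¹) := by group
        refine Fintype.card_le_of_injective
          (fun a => (⟨_, hmem a.1 (Finset.mem_filter.mp a.2).2⟩ : D)) fun a a' he => ?_
        have he' : (n : G)⁻¹ * a.1.1 = (n : G)⁻¹ * a'.1.1 := congrArg Subtype.val he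
        have h1' := mul_left_cancel he'
        have h2' := ((Finset.mem_filter.mp a.2).2.trans (Finset.mem_filter.mp a'.2).2.symm)
        rw [h1'] at h2'
        exact Subtype.ext (Prod.ext (Subtype.ext h1') (Subtype.ext (mul_left_cancel h2')))
      · intro y hy
        obtain ⟨a, -, rfl⟩ := Finset.mem_image.mp hy
        exact hmaps a
    refine Nat.le_of_mul_le_mul_left ?_ (Nat.card_pos : 0 < Nat.card D)
    calc Nat.card D * (Nat.card N * (V u).card)
        ≤ Nat.card D * (Nat.card N * Nat.card B) := by gcongr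
      _ = Nat.card N * (Nat.card B * Nat.card D) := by ring
      _ ≤ Nat.card N * Nat.card C := Nat.mul_le_mul_left _ hBD
      _ ≤ _ := hND
  have h3 : ∑ u ∈ U, (X u).card + g ≤ g * Nat.card (P : Subgroup G) := by
    have hswap : ∑ u ∈ U, (X u).card =
        ∑ x : G, (U.filter fun u => x * u * x⁻¹ ∈ (P : Subgroup G)).card := by
      simp only [X, Finset.card_filter]
      exact Finset.sum_comm
    have hx : ∀ x : G, (U.filter fun u => x * u * x⁻¹ ∈ (P : Subgroup G)).card + 1 ≤
        Nat.card (P : Subgroup G) := fun x => by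
      have hle : (U.filter fun u => x * u * x⁻¹ ∈ (P : Subgroup G)).card ≤
          ((Finset.univ.filter fun y => y ∈ (P : Subgroup G)).erase 1).card := by
        refine Finset.card_le_card_of_injOn (fun u => x * u * x⁻¹) (fun u hu => ?_)
          fun u _ u' _ he => by simpa using he
        obtain ⟨hu1, hu2⟩ := Finset.mem_filter.mp hu
        have hne : u ≠ 1 := (Finset.mem_filter.mp hu1).2.2
        refine Finset.mem_erase.mpr ⟨fun e => hne (conj_eq_one_iff.mp e), ?_⟩
        exact Finset.mem_filter.mpr ⟨Finset.mem_univ _, hu2⟩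
      have hc : Nat.card (P : Subgroup G) =
          (Finset.univ.filter fun y => y ∈ (P : Subgroup G)).card := by
        rw [Nat.card_eq_fintype_card, Fintype.card_subtype]
      rw [hc, ← Finset.card_erase_add_one (s := Finset.univ.filter fun y => y ∈ (P : Subgroup G))
        (a := 1) (by simp [one_mem])]
      omega
    rw [hswap]
    calc ∑ x : G, (U.filter fun u => x * u * x⁻¹ ∈ (P : Subgroup G)).card + g
        = ∑ x : G, ((U.filter fun u => x * u * x⁻¹ ∈ (P : Subgroup G)).card + 1) := by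
          rw [Finset.sum_add_distrib, Finset.sum_const, smul_eq_mul, mul_one, Finset.card_univ]
      _ ≤ ∑ _x : G, Nat.card (P : Subgroup G) := Finset.sum_le_sum fun x _ => hx x
      _ = g * Nat.card (P : Subgroup G) := by
          rw [Finset.sum_const, smul_eq_mul, Finset.card_univ]
  -- elements of order prime to `p`
  set R := g.primeFactors.erase p with hRdef
  have hRp : ∀ r ∈ R, r.Prime ∧ r ∣ Nat.card G ∧ r ≠ p := fun r hr => by
    obtain ⟨hne, hr'⟩ := Finset.mem_erase.mp hr
    exact ⟨Nat.prime_of_mem_primeFactors hr', hgNat ▸ Nat.dvd_of_mem_primeFactors hr', hne⟩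
  choose! cr hcq hcV using fun r (hr : r ∈ R) =>
    c.exists_ctx (hRp r hr).1 (hRp r hr).2.2 (hRp r hr).2.1 (V := ⊥) IsPGroup.of_bot
  let S : R → Finset G := fun r => (Finset.univ : Finset (G × (cr r r.2).A)).image
    fun a => a.1 * (a.2 : G) * a.1⁻¹
  have hcover : W ⊆ insert 1 (R.attach.biUnion S) := fun v hv => by
    obtain ⟨-, hvc⟩ := Finset.mem_filter.mp hv
    by_cases hv1 : v = 1
    · exact Finset.mem_insert.mpr (Or.inl hv1)
    set o := orderOf v with hodef
    have ho : o ≠ 1 := fun e => hv1 (orderOf_eq_one_iff.mp e)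
    set r := o.minFac with hrdef
    have hr : r.Prime := Nat.minFac_prime ho
    have hro : r ∣ o := Nat.minFac_dvd o
    have hrp : r ≠ p := fun e => hr.ne_one (Nat.eq_one_of_dvd_coprimes hvc hro (dvd_of_eq e))
    have hrR : r ∈ R := Finset.mem_erase.mpr ⟨hrp, Nat.mem_primeFactors.mpr
      ⟨hr, hgNat ▸ hro.trans (orderOf_dvd_natCard v), Fintype.card_ne_zero⟩⟩
    set w := v ^ (o / r) with hwdef
    have hw1 : w ≠ 1 := fun e => by
      have hpos : 0 < o / r := Nat.div_pos (Nat.le_of_dvd (orderOf_pos v) hro) hr.pos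
      exact absurd (Nat.le_of_dvd hpos (orderOf_dvd_of_pow_eq_one e))
        (not_le.mpr (Nat.div_lt_self (orderOf_pos v) hr.one_lt))
    set c' := cr r hrR with hc'
    have hq : c'.q = r := hcq r hrR
    haveI := Fact.mk c'.hq
    obtain ⟨R', hR'⟩ := (c'.isPGroup_zpowers (q := c'.q) (k := 1) (x := w) (by
      rw [hq, pow_one, hwdef, ← pow_mul, Nat.div_mul_cancel hro, hodef,
        pow_orderOf_eq_one])).exists_le_sylow
    obtain ⟨x, hx⟩ := MulAction.exists_smul_eq G R' c'.Q
    have hxw : x * w * x⁻¹ ∈ (c'.Q : Subgroup G) := by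
      rw [← hx]
      refine Transfer.Fusion.mem_smul_sylow_iff.mpr ?_
      rw [show x⁻¹ * (x * w * x⁻¹) * x = w by group]
      exact hR' (mem_zpowers w)
    have hxv : x * v * x⁻¹ ∈ c'.A := by
      refine c'.mem_A_of_mem_M (c'.centralizer_le_M (c'.hQA hxw)
        (fun e => hw1 (conj_eq_one_iff.mp e)) (mem_centralizer_singleton_iff.mpr ?_))
        (by rw [orderOf_conj]; exact hvc)
      rw [hwdef]; group
    refine Finset.mem_insert.mpr (Or.inr (Finset.mem_biUnion.mpr ⟨⟨r, hrR⟩, R.mem_attach _, ?_⟩))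
    exact Finset.mem_image.mpr ⟨(x⁻¹, ⟨_, hxv⟩), Finset.mem_univ _, by simp [mul_assoc]⟩
  have hS : ∀ r : R, p * (S r).card ≤ g := fun r => by
    set c' := cr r r.2
    set N' := normalizer (c'.A : Set G)
    have hfib : ∀ y ∈ S r, Nat.card N' ≤ ((Finset.univ : Finset (G × c'.A)).filter
        fun a => a.1 * (a.2 : G) * a.1⁻¹ = y).card := fun y hy => by
      obtain ⟨⟨x, a⟩, -, rfl⟩ := Finset.mem_image.mp hy
      rw [Nat.card_eq_fintype_card, ← Finset.card_univ]
      refine Finset.card_le_card_of_injOn (fun n : N' => (x * (n : G),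
        (⟨(n : G)⁻¹ * a * n, (mem_normalizer_iff''.mp n.2 a).mp a.2⟩ : c'.A))) (fun n _ => ?_)
        fun n _ n' _ he => ?_
      · simp only [Finset.coe_filter, Finset.mem_univ, true_and, Set.mem_setOf_eq]
        group
      · exact Subtype.ext (mul_left_cancel (Prod.ext_iff.mp he).1)
    have h := Finset.mul_card_image_le_card
      (f := fun a : G × c'.A => a.1 * (a.2 : G) * a.1⁻¹) Finset.univ (Nat.card N') hfib
    rw [Finset.card_univ, Fintype.card_prod, ← Nat.card_eq_fintype_card (α := c'.A)] at h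
    refine Nat.le_of_mul_le_mul_left ?_ (Nat.card_pos : 0 < Nat.card c'.A)
    calc Nat.card c'.A * (p * (S r).card) = p * Nat.card c'.A * (S r).card := by ring
      _ ≤ Nat.card N' * (S r).card := Nat.mul_le_mul_right _ c'.mul_card_le_card_normalizer
      _ ≤ g * Nat.card c'.A := h
      _ = _ := mul_comm _ _
  have h4 : p * W.card ≤ p + R.card * g := by
    calc p * W.card ≤ p * (insert 1 (R.attach.biUnion S)).card :=
          Nat.mul_le_mul_left _ (Finset.card_le_card hcover)
      _ ≤ p * ((R.attach.biUnion S).card + 1) := Nat.mul_le_mul_left _ (Finset.card_insert_le _ _)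
      _ ≤ p * ((∑ r ∈ R.attach, (S r).card) + 1) :=
          Nat.mul_le_mul_left _ (Nat.add_le_add_right Finset.card_biUnion_le _)
      _ = ∑ r ∈ R.attach, p * (S r).card + p := by rw [mul_add, Finset.mul_sum, mul_one]
      _ ≤ ∑ _r ∈ R.attach, g + p := Nat.add_le_add_right (Finset.sum_le_sum fun r _ => hS r) _
      _ = p + R.card * g := by
          rw [Finset.sum_const, smul_eq_mul, Finset.card_attach, add_comm]
  have h5 := c.five
  have hm : 2 * R.card + 3 ≤ p := by
    have hsub : R ⊆ Finset.Icc 2 ((p - 1) / 2) := fun r hr => by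
      obtain ⟨hr', hrd, hrp⟩ := hRp r hr
      obtain ⟨d, hd⟩ := c.small r hr' hrd hrp
      refine Finset.mem_Icc.mpr ⟨hr'.two_le, ?_⟩
      have hd2 : 2 ≤ d := by
        by_contra hlt
        interval_cases d
        · omega
        · rw [mul_one] at hd
          rw [← hd] at hr'
          have heven : 2 ∣ p - 1 :=
            (Nat.Prime.even_sub_one hp.out (by omega : p ≠ 2)).two_dvd
          rcases (Nat.prime_two.eq_one_or_self_of_dvd 2 dvd_rfl) with h | -
          · omega
          have := (Nat.prime_dvd_prime_iff_eq Nat.prime_two hr').mp heven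
          omega
      rw [Nat.le_div_iff_mul_le (by norm_num), hd]
      exact Nat.mul_le_mul_left _ hd2
    have hc := Finset.card_le_card hsub
    rw [Nat.card_Icc] at hc
    omega
  have hP2 := c.sylow_lt_normalizer P
  have hPpos : 0 < Nat.card (P : Subgroup G) := Nat.card_pos
  have hsum : Nat.card N * ∑ u ∈ U, (V u).card ≤ ∑ u ∈ U, (X u).card := by
    rw [Finset.mul_sum]
    exact Finset.sum_le_sum h2
  have hgp : p ≤ g := hgNat ▸ Nat.le_of_dvd Nat.card_pos c.prime_dvd_card
  set s := ∑ u ∈ U, (V u).card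
  have h6 : 2 * s < g := by
    by_contra hge
    rw [not_lt] at hge
    have : Nat.card (P : Subgroup G) * (2 * s) ≤ Nat.card N * s := by
      rw [← mul_assoc, mul_comm _ 2]
      exact Nat.mul_le_mul_right _ hP2
    have := Nat.mul_le_mul_left (Nat.card (P : Subgroup G)) hge
    have hg0 : 0 < g := Fintype.card_pos
    nlinarith
  nlinarith

end Ctx

end Cfsg.Agent.GStructC.SmallPPrime
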