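import Cfsg.Agent.GStructC.SmallPPrime.Basic
import Cfsg.Agent.Lib.Coprime.Generation
import Cfsg.Agent.Lib.Transfer.Fusion

/-!
# A maximal abelian subgroup of order prime to `p` in a minimal simple counterexample
-/

set_option autoImplicit false

namespace Cfsg.Agent.GStructC.SmallPPrime

open Subgroup Cfsg.Agent
open scoped commutatorElement

variable {G : Type*} [Group G] {p : ℕ}

/-- `O_p(H)` inside the ambient group. -/
def opG (p : ℕ) (H : Subgroup G) : Subgroup G := (Cfsg.pCore p H).map H.subtype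

theorem opG_le (H : Subgroup G) : opG p H ≤ H := map_subtype_le _

theorem le_normalizer_opG (H : Subgroup G) : H ≤ normalizer (opG p H : Set G) := by
  refine le_normalizer_iff.mpr ?_
  rintro g hg _ ⟨y, hy, rfl⟩
  exact ⟨⟨g, hg⟩ * y * ⟨g, hg⟩⁻¹,
    (inferInstance : (Cfsg.pCore p H).Normal).conj_mem y hy _, rfl⟩

variable [Finite G] [hp : Fact p.Prime]

omit hp in
theorem opG_isPGroup (H : Subgroup G) : IsPGroup p (opG p H) :=
  (Cores.pCore_isPGroup p).map _

omit hp in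
theorem le_opG {H R : Subgroup G} (hRH : R ≤ H) (hR : IsPGroup p R)
    (hn : H ≤ normalizer (R : Set G)) : R ≤ opG p H := by
  haveI := normal_subgroupOf_of_le_normalizer hn
  intro r hr
  exact ⟨⟨r, hRH hr⟩,
    Cores.le_pCore (hR.of_equiv (subgroupOfEquivOfLe hRH).symm) (mem_subgroupOf.mpr hr), rfl⟩

omit hp in
theorem coprime_sup {A B : Subgroup G} (hA : (Nat.card A).Coprime p) (hB : (Nat.card B).Coprime p)
    (hn : A ≤ normalizer (B : Set G)) : (Nat.card ↥(A ⊔ B)).Coprime p := by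
  set N := normalizer (B : Set G)
  have hBN : B ≤ N := le_normalizer
  haveI : (B.subgroupOf N).Normal := normal_subgroupOf_of_le_normalizer le_rfl
  have h := Cores.card_sup_dvd_mul (A.subgroupOf N) (B.subgroupOf N)
  rw [← subgroupOf_sup hn hBN, Nat.card_congr (subgroupOfEquivOfLe hn).toEquiv,
    Nat.card_congr (subgroupOfEquivOfLe hBN).toEquiv,
    Nat.card_congr (subgroupOfEquivOfLe (sup_le hn hBN)).toEquiv] at h
  exact (hA.mul_left hB).coprime_dvd_left h

theorem eq_one_of_mem_mem {A B : Subgroup G} (hA : (Nat.card A).Coprime p) (hB : IsPGroup p B)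
    {x : G} (hxA : x ∈ A) (hxB : x ∈ B) : x = 1 := by
  obtain ⟨k, hk⟩ := exists_pow_of_mem hB hxB
  exact eq_one_of_coprime_of_pow (coprime_orderOf_of_mem hA hxA) hk

theorem mem_normalizer_of_conj_mem {A : Subgroup G} {x : G}
    (h : ∀ a ∈ A, x * a * x⁻¹ ∈ A) : x ∈ normalizer (A : Set G) := by
  refine Transfer.Fusion.map_conj_eq_self_iff.mp
    (eq_of_le_of_card_ge ?_ (Transfer.Fusion.card_map_conj A x).ge)
  rintro _ ⟨a, ha, rfl⟩
  exact h a ha

/-- A minimal simple counterexample with a prime `q` and a maximal subgroup of order prime to `p`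
containing a Sylow `q`-subgroup. -/
structure Ctx (p : ℕ) (G : Type*) [Group G] where
  five : 5 ≤ p
  small : ∀ r : ℕ, r.Prime → r ∣ Nat.card G → r ≠ p → r ∣ p - 1
  ab : AbPPrime p G
  sol : ∀ H : Subgroup G, H ≠ ⊤ → Group.IsSolvable H
  simple : ∀ N : Subgroup G, N.Normal → N = ⊥ ∨ N = ⊤
  notComm : ¬ IsMulCommutative G
  q : ℕ
  hq : q.Prime
  hqp : q ≠ p
  hqd : q ∣ Nat.card G
  A : Subgroup G
  hAcop : (Nat.card A).Coprime p
  hAmax : ∀ B : Subgroup G, A ≤ B → (Nat.card B).Coprime p → B = A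
  Q : Sylow q G
  hQA : (Q : Subgroup G) ≤ A

namespace Ctx

variable (c : Ctx p G)
include c

omit hp [Finite G] in
theorem A_comm {a b : G} (ha : a ∈ c.A) (hb : b ∈ c.A) : a * b = b * a :=
  congrArg Subtype.val ((c.ab c.A c.hAcop).is_comm.comm ⟨a, ha⟩ ⟨b, hb⟩)

theorem ne_top_of_isPGroup {R : Subgroup G} (hR : IsPGroup p R) : R ≠ ⊤ := by
  rintro rfl
  have hn : Group.IsNilpotent G := (hR.of_equiv topEquiv).isNilpotent
  rcases c.simple (center G) inferInstance with h | h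
  · haveI : Nontrivial G := by
      by_contra h0
      rw [not_nontrivial_iff_subsingleton] at h0
      exact c.notComm ⟨⟨fun a b => Subsingleton.elim _ _⟩⟩
    exact Group.IsNilpotent.center_ne_bot (G := G) h
  · exact c.notComm ⟨⟨fun a b => (mem_center_iff.mp (h ▸ mem_top b) a)⟩⟩

omit hp [Finite G] in
theorem normalizer_ne_top {R : Subgroup G} (h0 : R ≠ ⊥) (h1 : R ≠ ⊤) :
    normalizer (R : Set G) ≠ ⊤ := fun h =>
  (c.simple R (normalizer_eq_top_iff.mp h)).elim h0 h1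

omit hp [Finite G] in
theorem centralizer_ne_top {R : Subgroup G} (h0 : R ≠ ⊥) :
    centralizer (R : Set G) ≠ ⊤ := fun h => by
  obtain ⟨⟨r, hr⟩, hr1⟩ := R.ne_bot_iff_exists_ne_one.mp h0
  have hz : r ∈ center G := mem_center_iff.mpr fun g =>
    (mem_centralizer_iff.mp (h ▸ mem_top g) r hr).symm
  rcases c.simple (center G) inferInstance with h' | h'
  · exact hr1 (Subtype.ext (by rw [h', mem_bot] at hz; exact hz))
  · exact c.notComm ⟨⟨fun a b => (mem_center_iff.mp (h' ▸ mem_top b) a)⟩⟩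

omit hp in
theorem A_ne_bot : c.A ≠ ⊥ := fun h => by
  haveI := Fact.mk c.hq
  exact c.Q.ne_bot_of_dvd_card c.hqd (le_bot_iff.mp (h ▸ c.hQA))

omit hp in
theorem mem_A {x : G} (hx : (orderOf x).Coprime p) (hn : ∀ a ∈ c.A, x * a * x⁻¹ ∈ c.A) :
    x ∈ c.A := by
  have h := c.hAmax (zpowers x ⊔ c.A) le_sup_right (coprime_sup (by rwa [Nat.card_zpowers])
    c.hAcop (zpowers_le.mpr (mem_normalizer_of_conj_mem hn)))
  exact h ▸ mem_sup_left (mem_zpowers x)

omit hp in
theorem mem_A_of_centralizes {x : G} (hx : (orderOf x).Coprime p)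
    (hn : ∀ a ∈ c.A, x * a = a * x) : x ∈ c.A :=
  c.mem_A hx fun a ha => by rwa [hn a ha, mul_inv_cancel_right]

/-- An element of `H` of order prime to `p` is congruent to an element of `A` modulo `O_p(H)`. -/
theorem exists_mem_A {H : Subgroup G} (hH : H ≠ ⊤) (hAH : c.A ≤ H) {y : G} (hy : y ∈ H)
    (hyc : (orderOf y).Coprime p) : ∃ a ∈ c.A, a⁻¹ * y ∈ opG p H := by
  haveI := c.sol H hH
  obtain ⟨Y, hXY, hYH, hHY, hmemY, hcomm, hpY, -⟩ := exists_core c.ab H
  have hAY : c.A ≤ Y := fun a ha => hmemY a (hAH ha) (coprime_orderOf_of_mem c.hAcop ha)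
  have hyY := hmemY y hy hyc
  obtain ⟨k, hk⟩ := IsPGroup.iff_card.mp (opG_isPGroup (p := p) H)
  obtain ⟨n, hn, hnc⟩ := Coprime.exists_fixed_in_coset (A := c.A) (N := opG p H) (k := y)
    (hAH.trans (le_normalizer_opG H)) (by rw [hk]; exact c.hAcop.pow_right k)
    (Or.inl (haveI := c.ab c.A c.hAcop; Coprime.isSolvable_of_isMulCommutative c.A)) (fun a ha => by
      have h := hcomm _ (Y.inv_mem hyY) a (hAY ha)
      simpa [opG, commutatorElement_def, mul_assoc] using h)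
  obtain ⟨u, v, huv, hu, hv, ⟨j, hj⟩, hvc⟩ := exists_split (p := p) (y * n)
  have hzY : y * n ∈ Y := Y.mul_mem hyY (hXY hn)
  have hvA : v ∈ c.A := c.mem_A_of_centralizes hvc fun a ha =>
    (mem_centralizer_iff.mp (zpowers_le.mpr hnc hv) a ha).symm
  refine ⟨v, hvA, ?_⟩
  have huX : u ∈ opG p H := hpY u (zpowers_le.mpr hzY hu) j hj
  have he : y = u * v * n⁻¹ := by rw [huv, mul_inv_cancel_right]
  have hcm : u * v = v * u := by
    obtain ⟨i, rfl⟩ := mem_zpowers_iff.mp hu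
    obtain ⟨i', rfl⟩ := mem_zpowers_iff.mp hv
    rw [← zpow_add, ← zpow_add, add_comm]
  rw [he, hcm, show v⁻¹ * (v * u * n⁻¹) = u * n⁻¹ by group]
  exact mul_mem huX (inv_mem hn)

/-- `A`-invariant `p`-subgroups of a proper subgroup containing `A` lie in its `O_p`. -/
theorem le_opG_of_invariant {H R : Subgroup G} (hH : H ≠ ⊤) (hAH : c.A ≤ H) (hRH : R ≤ H)
    (hR : IsPGroup p R) (hAR : c.A ≤ normalizer (R : Set G)) : R ≤ opG p H := by
  haveI := c.sol H hH
  obtain ⟨Y, hXY, hYH, hHY, hmemY, hcomm, hpY, hcent⟩ := exists_core c.ab H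
  intro r hr
  have hrY : ∀ y ∈ Y, r * y * r⁻¹ ∈ Y := le_normalizer_iff.mp hHY r (hRH hr)
  have hA : ∀ a ∈ c.A, ⁅r, a⁆ ∈ opG p H := by
    intro a ha
    have haY := hmemY a (hAH ha) (coprime_orderOf_of_mem c.hAcop ha)
    have h1 : ⁅r, a⁆ ∈ Y := by
      rw [commutatorElement_def]
      exact mul_mem (hrY a haY) (inv_mem haY)
    have h2 : ⁅r, a⁆ ∈ R := by
      rw [commutatorElement_def, show r * a * r⁻¹ * a⁻¹ = r * (a * r⁻¹ * a⁻¹) by group]
      exact mul_mem hr ((le_normalizer_iff.mp hAR) a ha _ (inv_mem hr))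
    obtain ⟨j, hj⟩ := exists_pow_of_mem hR h2
    exact hpY _ h1 j hj
  obtain ⟨j, hj⟩ := exists_pow_of_mem hR hr
  refine hpY r (hcent r (hRH hr) fun y hy => ?_) j hj
  obtain ⟨u, v, huv, hu, hv, ⟨i, hi⟩, hvc⟩ := exists_split (p := p) y
  have hvY : v ∈ Y := zpowers_le.mpr hy hv
  have huX : u ∈ opG p H := hpY u (zpowers_le.mpr hy hu) i hi
  obtain ⟨a, ha, hav⟩ := c.exists_mem_A hH hAH (hYH hvY) hvc
  have hX := le_normalizer_iff.mp (le_normalizer_opG (p := p) H)
  have e : y = u * (a * (a⁻¹ * v)) := by rw [mul_inv_cancel_left, huv]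
  have hm : ∀ s t : G, s ∈ H → ⁅r, s⁆ ∈ opG p H → ⁅r, t⁆ ∈ opG p H → ⁅r, s * t⁆ ∈ opG p H := by
    intro s t hs h1 h2
    rw [show ⁅r, s * t⁆ = ⁅r, s⁆ * (s * ⁅r, t⁆ * s⁻¹) by
      simp only [commutatorElement_def]; group]
    exact mul_mem h1 (hX s hs _ h2)
  have hXc : ∀ x ∈ opG p H, ⁅r, x⁆ ∈ opG p H := fun x hx => by
    rw [commutatorElement_def]
    exact mul_mem (hX r (hRH hr) x hx) (inv_mem hx)
  rw [e]
  exact hm _ _ (hYH (hXY huX)) (hXc u huX) (hm _ _ (hAH ha) (hA a ha) (hXc _ hav))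

end Ctx

end Cfsg.Agent.GStructC.SmallPPrime
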