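import Cfsg.Agent.GStructC.SmallPPrime.Local

/-!
# The subgroup `M` controls the `q`-elements
-/

set_option autoImplicit false

namespace Cfsg.Agent.GStructC.SmallPPrime

open Subgroup Cfsg.Agent
open scoped commutatorElement Pointwise

variable {G : Type*} [Group G]

/-- The join of the `A`-invariant `p`-subgroups. -/
def maxInv (p : ℕ) (A : Subgroup G) : Subgroup G :=
  sSup {R | IsPGroup p R ∧ A ≤ normalizer (R : Set G)}

open Classical in
/-- The subgroup `M` attached to `A`. -/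
noncomputable def localOf (p : ℕ) (A : Subgroup G) : Subgroup G :=
  if maxInv p A = ⊥ then normalizer (A : Set G) else normalizer (maxInv p A : Set G)

/-- A `p`-element normalising a cyclic `q`-group with `q ∣ p - 1` centralises it. -/
theorem conj_eq_of_cyclic [Finite G] {p q : ℕ} [hp : Fact p.Prime] (hq : q.Prime) (hqp : q ≠ p)
    (hd : q ∣ p - 1) {C : Subgroup G} (hC : IsPGroup q C) [IsCyclic C] {u : G} {k : ℕ}
    (hu : u ^ p ^ k = 1) (hun : u ∈ normalizer (C : Set G)) : ∀ x ∈ C, u * x * u⁻¹ = x := by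
  haveI := Fact.mk hq
  intro x hx
  obtain ⟨a, ha⟩ := IsPGroup.iff_card.mp hC
  have hcop : (Nat.card (MulAut C)).Coprime p := by
    rw [IsCyclic.card_mulAut, ha]
    refine Nat.Coprime.symm ((hp.out.coprime_iff_not_dvd).mpr fun hd' => ?_)
    rcases Nat.eq_zero_or_pos a with rfl | ha0
    · rw [pow_zero, Nat.totient_one] at hd'
      exact hp.out.not_dvd_one hd'
    · rw [Nat.totient_prime_pow hq ha0] at hd'
      rcases hp.out.dvd_mul.mp hd' with h | h
      · exact hqp ((Nat.prime_dvd_prime_iff_eq hp.out hq).mp (hp.out.dvd_of_dvd_pow h)).symm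
      · have := hp.out.two_le
        have h1 := Nat.le_of_dvd (by omega) hd
        have h2 := hq.two_le
        have := Nat.le_of_dvd (by omega) h
        omega
  have h1 : C.normalizerMonoidHom ⟨u, hun⟩ = 1 := by
    refine orderOf_eq_one_iff.mp (Nat.eq_one_of_dvd_coprimes (hcop.pow_right k)
      (orderOf_dvd_natCard _) (orderOf_dvd_of_pow_eq_one ?_))
    rw [← map_pow, show (⟨u, hun⟩ : ↥(normalizer (C : Set G))) ^ p ^ k = 1 from
      Subtype.ext (by rw [Subgroup.coe_pow, Subgroup.coe_one]; exact hu), map_one]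
  exact congrArg Subtype.val (DFunLike.congr_fun h1 (⟨x, hx⟩ : C))

namespace Ctx

variable [Finite G] {p : ℕ} [hp : Fact p.Prime] (c : Ctx p G)
include c

theorem maxInv_spec : c.Inv (maxInv p c.A) ∧ ∀ R, c.Inv R → R ≤ maxInv p c.A := by
  obtain ⟨W, hW, hmax⟩ := c.exists_greatest_inv
  have e : maxInv p c.A = W := le_antisymm (sSup_le hmax) (le_sSup hW)
  exact e ▸ ⟨hW, hmax⟩

theorem normalizer_A_le_normalizer_maxInv :
    normalizer (c.A : Set G) ≤ normalizer (maxInv p c.A : Set G) := fun g hg => by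
  obtain ⟨⟨hWp, hWA⟩, hmax⟩ := c.maxInv_spec
  set W := maxInv p c.A
  have h : c.Inv (W.map (MulAut.conj g).toMonoidHom) := by
    refine ⟨hWp.map _, fun a ha => mem_normalizer_of_conj_mem ?_⟩
    rintro _ ⟨w, hw, rfl⟩
    refine ⟨(g⁻¹ * a * g) * w * (g⁻¹ * a * g)⁻¹,
      (le_normalizer_iff.mp hWA) _ ((mem_normalizer_iff''.mp hg a).mp ha) w hw, ?_⟩
    simp [mul_assoc]
  refine mem_normalizer_of_conj_mem fun w hw => hmax _ h ⟨w, hw, rfl⟩

/-- The subgroup `M`. -/
noncomputable abbrev M : Subgroup G := localOf p c.A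

theorem normalizer_A_le_M : normalizer (c.A : Set G) ≤ c.M := by
  unfold M localOf
  split_ifs
  exacts [le_rfl, c.normalizer_A_le_normalizer_maxInv]

theorem A_le_M : c.A ≤ c.M := le_normalizer.trans c.normalizer_A_le_M

theorem M_ne_top : c.M ≠ ⊤ := by
  unfold M localOf
  split_ifs with h
  · refine c.normalizer_ne_top c.A_ne_bot fun e => c.notComm ⟨⟨fun a b => ?_⟩⟩
    exact c.A_comm (e ▸ mem_top a) (e ▸ mem_top b)
  · exact c.normalizer_ne_top h (c.ne_top_of_isPGroup c.maxInv_spec.1.1)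

theorem maxInv_le_M : maxInv p c.A ≤ c.M := by
  unfold M localOf
  split_ifs with h
  · rw [h]; exact bot_le
  · exact le_normalizer

theorem opG_le_M {H : Subgroup G} (hAH : c.A ≤ H) : opG p H ≤ c.M :=
  (c.maxInv_spec.2 _ (c.inv_opG hAH)).trans c.maxInv_le_M

theorem mem_M_of_conj_subset {H : Subgroup G} (hH : H ≠ ⊤) (hAH : c.A ≤ H) {g : G}
    (hg : ∀ a ∈ c.A, g * a * g⁻¹ ∈ H) : g ∈ c.M := by
  obtain ⟨x, hx, hxg⟩ := c.exists_mul_mem_normalizer hH hAH hg
  have h := c.M.mul_mem (c.M.inv_mem (c.opG_le_M hAH hx)) (c.normalizer_A_le_M hxg)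
  rwa [inv_mul_cancel_left] at h

theorem centralizer_le_M {a : G} (ha : a ∈ c.A) (ha1 : a ≠ 1) : centralizer {a} ≤ c.M := by
  intro g hg
  have hH : centralizer ({a} : Set G) ≠ ⊤ := by
    rw [← centralizer_closure, ← zpowers_eq_closure]
    exact c.centralizer_ne_top (by simpa using ha1)
  exact c.mem_M_of_conj_subset hH
    (fun b hb => mem_centralizer_singleton_iff.mpr (c.A_comm hb ha))
    fun b hb => (centralizer ({a} : Set G)).mul_mem ((centralizer ({a} : Set G)).mul_mem hg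
      (mem_centralizer_singleton_iff.mpr (c.A_comm hb ha))) ((centralizer ({a} : Set G)).inv_mem hg)

theorem normalizer_Q_le_M : normalizer ((c.Q : Subgroup G) : Set G) ≤ c.M := fun n hn => by
  refine c.mem_M_of_conj_subset (c.centralizer_ne_top c.Q_ne_bot) c.A_le_centralizer_Q
    fun a ha => mem_centralizer_iff.mpr fun y hy => ?_
  have e := c.A_comm (c.hQA ((mem_normalizer_iff''.mp hn y).mp hy)) ha
  calc y * (n * a * n⁻¹) = n * (n⁻¹ * y * n * a) * n⁻¹ := by group
    _ = n * (a * (n⁻¹ * y * n)) * n⁻¹ := by rw [e]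
    _ = n * a * n⁻¹ * y := by group

omit hp in
theorem Q_le_A : (c.Q : Subgroup G) ≤ c.A := c.hQA

theorem Q_le_M : (c.Q : Subgroup G) ≤ c.M := c.hQA.trans c.A_le_M

omit hp in
theorem isPGroup_zpowers {x : G} {q k : ℕ} (hk : x ^ q ^ k = 1) : IsPGroup q (zpowers x) := by
  intro ⟨y, hy⟩
  obtain ⟨i, rfl⟩ := mem_zpowers_iff.mp hy
  exact ⟨k, Subtype.ext (by
    rw [Subgroup.coe_pow, Subgroup.coe_one, ← zpow_natCast, ← zpow_mul, mul_comm, zpow_mul,
      zpow_natCast, hk, one_zpow])⟩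

/-- A `q`-element of `M` is conjugate in `M` into `Q`. -/
theorem exists_conj_mem_Q {b : G} (hb : b ∈ c.M) {k : ℕ} (hk : b ^ c.q ^ k = 1) :
    ∃ m ∈ c.M, m * b * m⁻¹ ∈ (c.Q : Subgroup G) := by
  haveI := Fact.mk c.hq
  obtain ⟨m, hm, h⟩ := Transfer.Fusion.exists_conj_le_of_isPGroup c.Q c.Q_le_M
    (c.isPGroup_zpowers hk) (zpowers_le.mpr hb)
  exact ⟨m, hm, h ⟨b, mem_zpowers b, rfl⟩⟩

/-- `M` contains every element conjugating one of its nontrivial `q`-elements into `M`. -/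
theorem mem_M_of_conj {b g : G} (hb : b ∈ c.M) (hb1 : b ≠ 1) {k : ℕ} (hk : b ^ c.q ^ k = 1)
    (hgb : g * b * g⁻¹ ∈ c.M) : g ∈ c.M := by
  haveI := Fact.mk c.hq
  obtain ⟨m₁, hm₁, h₁⟩ := c.exists_conj_mem_Q hb hk
  obtain ⟨m₂, hm₂, h₂⟩ := c.exists_conj_mem_Q hgb (k := k)
    (by rw [conj_pow, hk, mul_one, mul_inv_cancel])
  set y := m₁ * b * m₁⁻¹
  set g' := m₂ * g * m₁⁻¹ with hg'
  have hz : g' * y * g'⁻¹ ∈ (c.Q : Subgroup G) := by
    rw [show g' * y * g'⁻¹ = m₂ * (g * b * g⁻¹) * m₂⁻¹ by simp only [g', y]; group]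
    exact h₂
  set z := g' * y * g'⁻¹
  have hz1 : z ≠ 1 := fun e => hb1 (by
    have h : y = 1 := conj_eq_one_iff.mp e
    exact conj_eq_one_iff.mp h)
  have hC := c.centralizer_le_M (c.hQA hz) hz1
  have hR : ((g' • c.Q : Sylow c.q G) : Subgroup G) ≤ c.M := by
    intro w hw
    refine hC (mem_centralizer_singleton_iff.mpr ?_)
    have hw' := Transfer.Fusion.mem_smul_sylow_iff.mp hw
    have e := c.A_comm (c.hQA hw') (c.hQA h₁)
    calc w * z = g' * (g'⁻¹ * w * g' * y) * g'⁻¹ := by simp only [z]; group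
      _ = g' * (y * (g'⁻¹ * w * g')) * g'⁻¹ := by rw [e]
      _ = z * w := by simp only [z]; group
  obtain ⟨m, hm, hme⟩ := Transfer.Fusion.exists_conj_eq_of_le hR c.Q_le_M
  have hn : m * g' ∈ c.M := by
    refine c.normalizer_Q_le_M (Transfer.Fusion.map_conj_eq_self_iff.mp ?_)
    rw [Transfer.Fusion.map_conj_mul, ← Transfer.Fusion.coe_smul_eq_map]
    exact hme
  have h := c.M.mul_mem (c.M.mul_mem (c.M.inv_mem hm₂) (c.M.mul_mem (c.M.inv_mem hm) hn)) hm₁
  rwa [inv_mul_cancel_left, hg', show m₂⁻¹ * (m₂ * g * m₁⁻¹) * m₁ = g by group] at h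

theorem centralizer_le_M_of_mem {b : G} (hb : b ∈ c.M) (hb1 : b ≠ 1) {k : ℕ}
    (hk : b ^ c.q ^ k = 1) : centralizer {b} ≤ c.M := fun g hg =>
  c.mem_M_of_conj hb hb1 hk (by
    rwa [mem_centralizer_singleton_iff.mp hg, mul_inv_cancel_right])

/-- A proper subgroup containing a noncyclic abelian `q`-subgroup of `M` lies in `M`. -/
theorem le_M_of_noncyclic {H V : Subgroup G} (hH : H ≠ ⊤) (hVH : V ≤ H) (hVM : V ≤ c.M)
    (hV : IsPGroup c.q V) [IsMulCommutative V] (hnc : ¬ IsCyclic V) : H ≤ c.M := by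
  haveI := Fact.mk c.hq
  haveI := c.sol H hH
  obtain ⟨Y, hXY, hYH, hHY, hmemY, hcomm, hpY, -⟩ := exists_core c.ab H
  obtain ⟨kX, hkX⟩ := IsPGroup.iff_card.mp (opG_isPGroup (p := p) H)
  obtain ⟨kV, hkV⟩ := IsPGroup.iff_card.mp hV
  have hqp : c.q.Coprime p := (Nat.coprime_primes c.hq hp.out).mpr c.hqp
  have hC : ∀ v ∈ V, v ≠ 1 → centralizer {v} ≤ c.M := fun v hv hv1 => by
    obtain ⟨k, hk⟩ := exists_pow_of_mem hV hv
    exact c.centralizer_le_M_of_mem (hVM hv) hv1 hk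
  have hX : opG p H ≤ c.M := by
    rw [← Coprime.fixedGen_eq hnc (hVH.trans (le_normalizer_opG H))
      (by rw [hkV, hkX]; exact hqp.pow kV kX)]
    exact iSup₂_le fun a ha => inf_le_right.trans (hC a ha.1 ha.2)
  obtain ⟨v, hv, hv1⟩ : ∃ v ∈ V, v ≠ 1 := by
    by_contra! h
    exact hnc (by
      haveI : Subsingleton V := ⟨fun a b => Subtype.ext (by rw [h a a.2, h b b.2])⟩
      exact isCyclic_of_subsingleton)
  have hvc : (Nat.card V).Coprime p := hkV ▸ hqp.pow_left kV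
  have hvY : v ∈ Y := hmemY v (hVH hv) (coprime_orderOf_of_mem hvc hv)
  have hYM : Y ≤ c.M := fun y hy => by
    obtain ⟨n, hn, hnc'⟩ := Coprime.exists_fixed_in_coset (A := zpowers v) (N := opG p H) (k := y)
      ((zpowers_le.mpr (hVH hv)).trans (le_normalizer_opG H))
      (by rw [hkX, Nat.card_zpowers]; exact (coprime_orderOf_of_mem hvc hv).pow_right kX)
      (Or.inl (Coprime.isSolvable_of_isMulCommutative _)) (fun a ha => by
        have h := hcomm _ (Y.inv_mem hy) a (zpowers_le.mpr hvY ha)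
        simpa [opG, commutatorElement_def, mul_assoc] using h)
    have h1 : y * n ∈ c.M := hC v hv hv1 (mem_centralizer_singleton_iff.mpr
      (mem_centralizer_iff.mp hnc' v (mem_zpowers v)).symm)
    have h2 := c.M.mul_mem h1 (c.M.inv_mem (hX hn))
    rwa [mul_inv_cancel_right] at h2
  intro g hg
  obtain ⟨k, hk⟩ := exists_pow_of_mem hV hv
  exact c.mem_M_of_conj (hVM hv) hv1 hk (hYM ((le_normalizer_iff.mp hHY) g hg v hvY))

/-- Every prime divisor of `|A|` can play the role of `q`. -/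
theorem exists_swap {r : ℕ} (hr : r.Prime) (hrA : r ∣ Nat.card c.A) :
    ∃ c' : Ctx p G, c'.A = c.A ∧ c'.q = r := by
  haveI := Fact.mk hr
  have hrp : r ≠ p := fun e =>
    hr.ne_one (Nat.eq_one_of_dvd_coprimes c.hAcop hrA (dvd_of_eq e))
  obtain ⟨R₀⟩ := (inferInstance : Nonempty (Sylow r c.A))
  obtain ⟨R, hR⟩ := (R₀.2.map c.A.subtype).exists_le_sylow
  obtain ⟨z₀, hz₀⟩ := exists_prime_orderOf_dvd_card' (G := (R₀ : Subgroup c.A)) r
    (R₀.dvd_card_of_dvd_card hrA)
  set z : G := ((z₀ : c.A) : G) with hz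
  have hz1 : z ≠ 1 := fun e => by
    have : z₀ = 1 := Subtype.ext (Subtype.ext e)
    rw [this, orderOf_one] at hz₀
    exact hr.ne_one hz₀.symm
  have hzA : z ∈ c.A := (z₀ : c.A).2
  have hzR : z ∈ R := hR ⟨(z₀ : c.A), z₀.2, rfl⟩
  obtain ⟨k, hk⟩ := IsPGroup.iff_card.mp R.2
  have hRc : (Nat.card (R : Subgroup G)).Coprime p :=
    hk ▸ ((Nat.coprime_primes hr hp.out).mpr hrp).pow_left k
  haveI := c.ab _ hRc
  have hH : centralizer ({z} : Set G) ≠ ⊤ := by
    rw [← centralizer_closure, ← zpowers_eq_closure]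
    exact c.centralizer_ne_top (by simpa using hz1)
  obtain ⟨x, -, hx⟩ := c.exists_conj_le hH (V := (R : Subgroup G))
    (fun b hb => mem_centralizer_singleton_iff.mpr (c.A_comm hb hzA))
    (fun b hb => mem_centralizer_singleton_iff.mpr
      (congrArg Subtype.val (mul_comm' (⟨b, hb⟩ : (R : Subgroup G)) ⟨z, hzR⟩))) hRc
  have hdvd : Nat.card (R : Subgroup G) ∣ Nat.card c.A := by
    rw [← Transfer.Fusion.card_map_conj (R : Subgroup G) x]
    refine card_dvd_of_le ?_
    rintro _ ⟨v, hv, rfl⟩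
    exact hx v hv
  have heq : (R₀ : Subgroup c.A).map c.A.subtype = R := by
    refine eq_of_le_of_card_ge hR ?_
    rw [card_subtype, hk, R₀.card_eq_multiplicity]
    exact Nat.pow_le_pow_right hr.pos
      ((hr.pow_dvd_iff_le_factorization Nat.card_pos.ne').mp (hk ▸ hdvd))
  exact ⟨{ c with q := r, hq := hr, hqp := hrp, hqd := hrA.trans (card_subgroup_dvd_card c.A),
                  Q := R, hQA := heq ▸ map_subtype_le _ }, rfl, rfl⟩

/-- No nontrivial element of `A` is central in `N(A)`. -/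
theorem eq_one_of_centralizes {a : G} (ha : a ∈ c.A)
    (hc : ∀ n ∈ normalizer (c.A : Set G), n * a = a * n) : a = 1 := by
  by_contra h1
  set o := orderOf a
  have ho : o ≠ 1 := fun h => h1 (orderOf_eq_one_iff.mp h)
  set r := o.minFac
  have hr : r.Prime := Nat.minFac_prime ho
  have hro : r ∣ o := Nat.minFac_dvd o
  have hoA : o ∣ Nat.card c.A := by
    show orderOf a ∣ _
    rw [← Subgroup.orderOf_mk a ha]; exact orderOf_dvd_natCard _
  obtain ⟨c', hA, hq⟩ := c.exists_swap hr (hro.trans hoA)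
  set b := a ^ (o / r)
  have hbr : b ^ r = 1 := by rw [← pow_mul, Nat.div_mul_cancel hro, pow_orderOf_eq_one]
  have hbQ : b ∈ (c'.Q : Subgroup G) :=
    c'.mem_Q (hA ▸ pow_mem ha _) (k := 1) (by rw [pow_one, hq, hbr])
  have hb := c'.eq_one_of_centralizes_normalizer hbQ fun n hn =>
    (Commute.pow_right (show Commute n a from hc n (hA ▸ hn)) _).eq
  have hpos : 0 < o / r := Nat.div_pos (Nat.le_of_dvd (orderOf_pos a) hro) hr.pos
  exact absurd (Nat.le_of_dvd hpos (orderOf_dvd_of_pow_eq_one hb))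
    (not_le.mpr (Nat.div_lt_self (orderOf_pos a) hr.one_lt))

end Ctx

end Cfsg.Agent.GStructC.SmallPPrime
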