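import Cfsg.Agent.GStructC.SmallPPrime.Embedded
import Cfsg.Agent.Techniques.SL2.ZJFusion
import Cfsg.Agent.Techniques.SL2.QdProps
import Cfsg.Agent.Lib.Classical.SL2Rep

/-!
# The normalizer of a Sylow `p`-subgroup is not a `p`-group, and is not inside `M`
-/

set_option autoImplicit false

namespace Cfsg.Agent.GStructC.SmallPPrime

open Subgroup Cfsg Cfsg.Agent Cfsg.Agent.Techniques.Functor Cfsg.Agent.Techniques.SL2
open scoped commutatorElement Pointwise MatrixGroups

universe u

variable {G : Type u} [Group G] [Finite G] {p : ℕ} [hp : Fact p.Prime]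

/-- A group in which every element has a `p`-power in `Y` is generated by `Y` and a maximal
`p`-subgroup. -/
theorem le_sup_of_maximal {H Y S : Subgroup G} (hY : Y ≤ H) (hn : H ≤ normalizer (Y : Set G))
    (hYp : ∀ n ∈ H, ∃ k, n ^ p ^ k ∈ Y) (hSH : S ≤ H) (hS : IsPGroup p S)
    (hmax : ∀ T : Subgroup G, IsPGroup p T → S ≤ T → T ≤ H → T = S) : H ≤ Y ⊔ S := by
  haveI := normal_subgroupOf_of_le_normalizer hn
  set Y' := Y.subgroupOf H
  let S' : Sylow p H :=
    { toSubgroup := S.subgroupOf H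
      isPGroup' := hS.of_equiv (subgroupOfEquivOfLe hSH).symm
      is_maximal' := fun {Q} hQ hle => by
        have h := hmax (Q.map H.subtype) (hQ.map _) (fun s hs =>
          ⟨⟨s, hSH hs⟩, hle (show (⟨s, hSH hs⟩ : H) ∈ S.subgroupOf H from mem_subgroupOf.mpr hs),
            rfl⟩) (map_subtype_le _)
        exact (comap_map_eq_self_of_injective H.subtype_injective Q).symm.trans (by rw [h]; rfl) }
  have hq : IsPGroup p (↥H ⧸ Y') := by
    intro y
    obtain ⟨⟨n, hnH⟩, rfl⟩ := QuotientGroup.mk'_surjective Y' y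
    obtain ⟨k, hk⟩ := hYp n hnH
    exact ⟨k, by rw [← map_pow]; exact (QuotientGroup.eq_one_iff _).mpr hk⟩
  obtain ⟨k, hk⟩ := IsPGroup.iff_card.mp hq
  have h1 : (Y' ⊔ S.subgroupOf H).index ∣ p ^ k := hk ▸ index_dvd_of_le le_sup_left
  have h2 : (Y' ⊔ S.subgroupOf H).index ∣ (S' : Subgroup H).index := index_dvd_of_le le_sup_right
  have h3 : (Y' ⊔ S.subgroupOf H).index = 1 := Nat.eq_one_of_dvd_coprimes
    (((hp.out.coprime_iff_not_dvd).mpr S'.not_dvd_index).pow_left k) h1 h2
  rw [index_eq_one, ← subgroupOf_sup hY hSH, subgroupOf_eq_top] at h3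
  exact h3

/-- A maximal `p`-subgroup of `H` above a given one. -/
theorem exists_maximal_le {H R : Subgroup G} (hR : IsPGroup p R) (hRH : R ≤ H) :
    ∃ S : Subgroup G, R ≤ S ∧ S ≤ H ∧ IsPGroup p S ∧
      ∀ T : Subgroup G, IsPGroup p T → S ≤ T → T ≤ H → T = S := by
  obtain ⟨S', hS'⟩ := (hR.of_equiv (subgroupOfEquivOfLe hRH).symm).exists_le_sylow
  refine ⟨(S' : Subgroup H).map H.subtype, fun r hr => ⟨⟨r, hRH hr⟩, hS' (mem_subgroupOf.mpr hr), rfl⟩,
    map_subtype_le _, S'.2.map _, fun T hT hle hTH => ?_⟩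
  have h := S'.3 (hT.of_equiv (subgroupOfEquivOfLe hTH).symm)
    (fun s hs => mem_subgroupOf.mpr (hle ⟨s, hs, rfl⟩))
  rw [← h, map_subgroupOf_eq_of_le hTH]

omit [Finite G] in
/-- A solvable group does not involve `Qd(p)`. -/
theorem not_involves_qd_of_solvable (h5 : 5 ≤ p) {H : Type*} [Group H] [Group.IsSolvable H] :
    ¬ Involves ↥(qd p) H := by
  intro hQ
  obtain ⟨K, f, hf⟩ := Qd.exists_surj hQ
  haveI := Group.isSolvable_of_surjective hf
  haveI : Group.IsSolvable SL(2, ZMod p) := Group.isSolvable_of_isSolvable_injective (f := QdProps.lin p) (by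
    intro A B h
    have h' : Qd.aff A 0 = Qd.aff B 0 := congrArg Subtype.val h
    apply Subtype.ext
    ext i j
    fin_cases i <;> fin_cases j
    · simpa [Qd.aff] using congrFun (congrFun (congrArg Subtype.val h') 0) 0
    · simpa [Qd.aff] using congrFun (congrFun (congrArg Subtype.val h') 0) 1
    · simpa [Qd.aff] using congrFun (congrFun (congrArg Subtype.val h') 1) 0
    · simpa [Qd.aff] using congrFun (congrFun (congrArg Subtype.val h') 1) 1)
  haveI : NeZero p := ⟨hp.out.ne_zero⟩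
  haveI : Nontrivial SL(2, ZMod p) := by
    refine ⟨⟨⟨!![1, 1; 0, 1], by simp [Matrix.det_fin_two]⟩, 1, fun h => ?_⟩⟩
    have := congrFun (congrFun (congrArg Subtype.val h) 0) 1
    simp at this
  exact (Group.IsSolvable.commutator_lt_top_of_nontrivial SL(2, ZMod p)).ne
    (Classical.SL2Rep.commutator_two_eq_top (F := ZMod p) (by rw [ZMod.card]; omega))

namespace Ctx

variable (c : Ctx p G)
include c

theorem prime_dvd_card : p ∣ Nat.card G := by
  by_contra h
  have hcop : (Nat.card (⊤ : Subgroup G)).Coprime p := by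
    rw [card_top]
    exact ((hp.out.coprime_iff_not_dvd).mpr h).symm
  exact c.notComm ⟨⟨fun a b => congrArg Subtype.val
    ((c.ab ⊤ hcop).is_comm.comm ⟨a, mem_top a⟩ ⟨b, mem_top b⟩)⟩⟩

theorem qd_free : ¬ Involves ↥(qd p) G := by
  intro hQ
  obtain ⟨K, f, hf⟩ := Qd.exists_surj hQ
  by_cases hK : K = ⊤
  · subst hK
    set g : G →* ↥(qd p) := f.comp topEquiv.symm.toMonoidHom
    have hg : Function.Surjective g := hf.comp topEquiv.symm.surjective
    rcases c.simple ((QdProps.V p).comap g) inferInstance with h | h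
    · refine QdProps.V_ne_bot p (le_bot_iff.mp ?_)
      rw [← map_comap_eq_self_of_surjective hg (QdProps.V p), h, Subgroup.map_bot]
    · refine QdProps.V_ne_bot p ?_
      rcases c.simple g.ker inferInstance with hk | hk
      · exfalso
        have hV : IsPGroup p G := fun x => by
          have hx : g x ∈ QdProps.V p := mem_comap.mp (h ▸ mem_top x)
          obtain ⟨k, hk'⟩ := exists_pow_of_mem (QdProps.isPGroup_V p) hx
          refine ⟨k, (mem_bot).mp (hk ▸ ?_)⟩
          rw [MonoidHom.mem_ker, map_pow, hk']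
        exact c.ne_top_of_isPGroup (hV.to_subgroup ⊤) rfl
      · refine eq_bot_iff.mpr fun y _ => ?_
        obtain ⟨x, rfl⟩ := hg y
        exact mem_bot.mpr (MonoidHom.mem_ker.mp (hk ▸ mem_top x))
  · haveI := c.sol K hK
    haveI := Group.isSolvable_of_surjective hf
    exact not_involves_qd_of_solvable c.five (H := ↥(qd p))
      (Qd.involves_of_surj (K := (⊤ : Subgroup ↥(qd p)))
        (topEquiv : (⊤ : Subgroup ↥(qd p)) ≃* ↥(qd p)).toMonoidHom topEquiv.surjective)

omit hp in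
theorem ne_two : p ≠ 2 := by have := c.five; omega

theorem Z_spec {R : Subgroup G} (hR : IsPGroup p R) :
    centerThompsonAOf R ≤ R ∧ (R ≠ ⊥ → centerThompsonAOf R ≠ ⊥) ∧
      normalizer (R : Set G) ≤ normalizer (centerThompsonAOf R : Set G) := by
  have hW := isConjugacyFunctor_induced (G := G) (p := p) ZJFusion.isCharPFunctor_zj.{u}
  rw [← ZJFusion.induced_zj]
  exact ⟨functor_le hW hR, fun h => functor_ne_bot hW hR h, normalizer_le_functor hW hR⟩

/-- The fusion in a Sylow `p`-subgroup takes place in `N(Z(J(P)))`. -/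
theorem fusion_zj (P : Sylow p G) {x g : G} (hx : x ∈ (P : Subgroup G))
    (hg : g * x * g⁻¹ ∈ (P : Subgroup G)) :
    ∃ n ∈ normalizer (centerThompsonAOf (P : Subgroup G) : Set G),
      g * x * g⁻¹ = n * x * n⁻¹ := by
  have h𝓦 : ∀ V ∈ ({ZJFusion.zj.{u}} : Set (∀ (Q : Type u) [Group Q], Subgroup Q)),
      IsCharPFunctor.{u} p V := by
    rintro V rfl
    exact ZJFusion.isCharPFunctor_zj
  have hfc : FC p {ZJFusion.zj.{u}} G := by
    refine fc_of_constrained (G := G) h𝓦 (fun H _ _ hsec hc T => ?_) G (IsSec.refl G)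
    have hfree : ¬ Involves ↥(qd p) H := fun hQ => by
      obtain ⟨K, R, hR, ⟨e⟩⟩ := hsec.exists_quotient
      exact c.qd_free (Qd.involves_quotient (K := K) (R := R) (Qd.involves_trans (L := ⊤)
        (e.toMonoidHom.comp (⊤ : Subgroup (↥K ⧸ R.subgroupOf K)).subtype)
        (fun y => ⟨⟨e.symm y, mem_top _⟩, e.apply_symm_apply y⟩) hQ))
    have hn : (inducedFunctor (G := H) ZJFusion.zj.{u} (T : Subgroup H)).Normal := by
      rw [ZJFusion.induced_zj]; exact ZJFusion.zj_normal_of_free c.ne_two hfree hc T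
    intro B k _ hB hc'
    refine Reach.single ?_ hc'
    rw [induced, Set.image_singleton, steps_singleton, SetLike.mem_coe, mem_inf,
      normalizer_eq_top_iff.mpr hn]
    exact ⟨mem_top k, mem_top k⟩
  have h1 := hfc P {x} g (mem_top g) (Set.singleton_subset_iff.mpr hx)
    (by rintro _ ⟨y, rfl, rfl⟩; exact hg)
  rw [induced, Set.image_singleton, steps_singleton] at h1
  obtain ⟨n, hn, he⟩ := Reach.exists_mem h1
  have hn' := (mem_inf.mp hn).2
  rw [ZJFusion.induced_zj] at hn'
  exact ⟨n, hn', (he x (Set.mem_singleton x)).symm⟩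

theorem sylow_ne_bot (P : Sylow p G) : (P : Subgroup G) ≠ ⊥ :=
  P.ne_bot_of_dvd_card c.prime_dvd_card

/-- Some nontrivial element of order prime to `p` normalises a Sylow `p`-subgroup. -/
theorem exists_normalizing (P : Sylow p G) :
    ∃ h ∈ normalizer ((P : Subgroup G) : Set G), (orderOf h).Coprime p ∧ h ≠ 1 := by
  by_contra! hcon
  set N := normalizer (centerThompsonAOf (P : Subgroup G) : Set G)
  obtain ⟨hZP, hZ0, hPN⟩ := c.Z_spec P.2
  have hP : (P : Subgroup G) ≤ N := le_normalizer.trans hPN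
  have hN : N ≠ ⊤ := c.normalizer_ne_top (hZ0 (c.sylow_ne_bot P))
    (c.ne_top_of_isPGroup (P.2.to_le hZP))
  haveI := c.sol N hN
  have htop : commutator G = ⊤ := by
    refine (c.simple _ inferInstance).resolve_left fun h0 => c.notComm ⟨⟨fun a b => ?_⟩⟩
    rw [← commutatorElement_eq_one_iff_mul_comm, ← Subgroup.mem_bot, ← h0]
    exact commutator_mem_commutator (mem_top a) (mem_top b)
  have hfoc : (P : Subgroup G) ≤ (commutator N).map N.subtype := by
    have h := Transfer.Fusion.focal_le_of_fusion P (F := (commutator N).map N.subtype)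
      fun x hx g hg => by
        obtain ⟨n, hn, he⟩ := c.fusion_zj P hx hg
        exact ⟨n, he.symm, ⁅(⟨x, hP hx⟩ : N), ⟨n, hn⟩⁆,
          commutator_mem_commutator (mem_top _) (mem_top _), map_commutatorElement _ _ _⟩
    rwa [htop, top_inf_eq] at h
  obtain ⟨Y, hXY, hYN, hNY, hmemY, hcomm, hpY, -⟩ := exists_core c.ab N
  haveI := normal_subgroupOf_of_le_normalizer hNY
  set P' : Sylow p N := P.subtype hP
  have hYtop : Y.subgroupOf N = ⊤ := by
    by_contra hne
    haveI : Nontrivial (N ⧸ Y.subgroupOf N) := QuotientGroup.nontrivial_iff.mpr hne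
    haveI : Group.IsSolvable (N ⧸ Y.subgroupOf N) :=
      Group.isSolvable_of_surjective (QuotientGroup.mk'_surjective _)
    have hD : commutator N ⊔ Y.subgroupOf N = ⊤ := by
      refine eq_top_iff.mpr fun n _ => ?_
      obtain ⟨a, b, hab, ha, hb, ⟨k, hk⟩, hbc⟩ := exists_split (p := p) (n : G)
      have haN : a ∈ N := zpowers_le.mpr n.2 ha
      have hbN : b ∈ N := zpowers_le.mpr n.2 hb
      have hne' : n = ⟨a, haN⟩ * ⟨b, hbN⟩ := Subtype.ext hab.symm
      rw [hne']
      refine mul_mem (mem_sup_left ?_) (mem_sup_right (mem_subgroupOf.mpr (hmemY b hbN hbc)))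
      have hq : IsPGroup p (zpowers (⟨a, haN⟩ : N)) := by
        intro ⟨y, hy⟩
        obtain ⟨i, rfl⟩ := mem_zpowers_iff.mp hy
        exact ⟨k, Subtype.ext (by
          rw [Subgroup.coe_pow, Subgroup.coe_one, ← zpow_natCast, ← zpow_mul, mul_comm, zpow_mul,
            zpow_natCast, show (⟨a, haN⟩ : N) ^ p ^ k = 1 from
              Subtype.ext (by rw [Subgroup.coe_pow, Subgroup.coe_one]; exact hk), one_zpow])⟩
      obtain ⟨Q, hQ⟩ := hq.exists_le_sylow
      obtain ⟨m, hm⟩ := MulAction.exists_smul_eq N P' Q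
      have h1 : (⟨a, haN⟩ : N) ∈ (m • P' : Sylow p N) := hm ▸ hQ (mem_zpowers _)
      have h2 := Transfer.Fusion.mem_smul_sylow_iff.mp h1
      obtain ⟨z, hz, hze⟩ := hfoc (show ((m⁻¹ * ⟨a, haN⟩ * m : N) : G) ∈ (P : Subgroup G) from h2)
      have h3 : m⁻¹ * ⟨a, haN⟩ * m ∈ commutator N := (Subtype.ext hze : z = _) ▸ hz
      have h4 := (inferInstance : (commutator N).Normal).conj_mem _ h3 m
      rwa [show m * (m⁻¹ * ⟨a, haN⟩ * m) * m⁻¹ = (⟨a, haN⟩ : N) by group] at h4
    refine (Group.IsSolvable.commutator_lt_top_of_nontrivial (N ⧸ Y.subgroupOf N)).ne ?_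
    have h := congrArg (Subgroup.map (QuotientGroup.mk' (Y.subgroupOf N))) hD
    rw [Subgroup.map_sup, QuotientGroup.map_mk'_self, sup_bot_eq,
      Subgroup.map_top_of_surjective _ (QuotientGroup.mk'_surjective _)] at h
    rw [← h, commutator_def, commutator_def, map_commutator,
      Subgroup.map_top_of_surjective _ (QuotientGroup.mk'_surjective _)]
  have hPX : (P : Subgroup G) ≤ opG p N := fun x hx => by
    obtain ⟨k, hk⟩ := exists_pow_of_mem P.2 hx
    exact hpY x (subgroupOf_eq_top.mp hYtop (hP hx)) k hk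
  have hXP : opG p N = (P : Subgroup G) := P.3 (opG_isPGroup N) hPX
  have hNP : N ≤ normalizer ((P : Subgroup G) : Set G) := hXP ▸ le_normalizer_opG N
  have hNeq : ∀ n ∈ N, n ∈ (P : Subgroup G) := fun n hn => by
    obtain ⟨a, b, hab, ha, hb, ⟨k, hk⟩, hbc⟩ := exists_split (p := p) n
    have hb1 : b = 1 := hcon b (hNP (zpowers_le.mpr hn hb)) hbc
    rw [hb1, mul_one] at hab
    exact hXP ▸ hpY n (subgroupOf_eq_top.mp hYtop hn) k (hab ▸ hk)
  have hcN : commutator N = ⊤ := eq_top_iff.mpr fun n _ => by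
    obtain ⟨z, hz, hze⟩ := hfoc (hNeq n n.2)
    exact (Subtype.ext hze : z = n) ▸ hz
  haveI : Nontrivial N := (nontrivial_iff_ne_bot N).mpr fun h =>
    c.sylow_ne_bot P (le_bot_iff.mp (h ▸ hP))
  exact (Group.IsSolvable.commutator_lt_top_of_nontrivial N).ne hcN

/-- An element of order prime to `p` of `M` normalising a Sylow `p`-subgroup of `G` inside `M` is
trivial. -/
theorem eq_one_of_normalizes_sylow (P : Sylow p G) (hPM : (P : Subgroup G) ≤ c.M) {h : G}
    (hhM : h ∈ c.M) (hh : h ∈ normalizer ((P : Subgroup G) : Set G))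
    (hhc : (orderOf h).Coprime p) : h = 1 := by
  haveI := c.sol c.M c.M_ne_top
  obtain ⟨a, ha, hax⟩ := c.exists_mem_A c.M_ne_top c.A_le_M hhM hhc
  obtain ⟨Y, hXY, hYM, hMY, hmemY, hcomm, hpY, -⟩ := exists_core c.ab c.M
  have hXn := le_normalizer_iff.mp (le_normalizer_opG (p := p) c.M)
  have hXP : opG p c.M ≤ (P : Subgroup G) := by
    obtain ⟨S, hS, -, hSp, -⟩ := exists_maximal_le (p := p) (H := c.M)
      ((opG_isPGroup c.M).to_sup_of_normal_left' P.2 (hPM.trans (le_normalizer_opG c.M)))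
      (sup_le (opG_le _) hPM)
    exact le_sup_left.trans (hS.trans (P.3 hSp (le_sup_right.trans hS)).le)
  have haY : a ∈ Y := hmemY a (c.A_le_M ha) (coprime_orderOf_of_mem c.hAcop ha)
  have haN : a ∈ normalizer ((P : Subgroup G) : Set G) := by
    rw [show a = h * (a⁻¹ * h)⁻¹ by group]
    exact mul_mem hh (le_normalizer (inv_mem (hXP hax)))
  let R : Subgroup G :=
    { carrier := {m | m ∈ c.M ∧ ⁅a, m⁆ ∈ opG p c.M}
      one_mem' := ⟨one_mem _, by rw [commutatorElement_one_right]; exact one_mem _⟩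
      mul_mem' := fun {s t} hs ht => ⟨mul_mem hs.1 ht.1, by
        rw [show ⁅a, s * t⁆ = ⁅a, s⁆ * (s * ⁅a, t⁆ * s⁻¹) by
          simp only [commutatorElement_def]; group]
        exact mul_mem hs.2 (hXn s hs.1 _ ht.2)⟩
      inv_mem' := fun {s} hs => ⟨inv_mem hs.1, by
        rw [show ⁅a, s⁻¹⁆ = s⁻¹ * ⁅a, s⁆⁻¹ * s⁻¹⁻¹ by simp only [commutatorElement_def]; group]
        exact hXn _ (inv_mem hs.1) _ (inv_mem hs.2)⟩ }
  have hle : c.M ≤ R := by
    refine (le_sup_of_maximal (p := p) hYM hMY (fun n hn => ?_) hPM P.2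
      (fun T hT hle _ => P.3 hT hle)).trans (sup_le (fun y hy => ⟨hYM hy, hcomm a haY y hy⟩) ?_)
    · obtain ⟨u, v, huv, hu, hv, ⟨k, hk⟩, hvc⟩ := exists_split (p := p) n
      refine ⟨k, ?_⟩
      have hcm : Commute u v := by
        obtain ⟨i, rfl⟩ := mem_zpowers_iff.mp hu
        obtain ⟨j, rfl⟩ := mem_zpowers_iff.mp hv
        exact Commute.zpow_zpow (Commute.refl n) i j
      rw [← huv, hcm.mul_pow, hk, one_mul]
      exact pow_mem (hmemY v (zpowers_le.mpr hn hv) hvc) _
    · intro t ht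
      have h1 : ⁅a, t⁆ ∈ (P : Subgroup G) := by
        rw [commutatorElement_def]
        exact mul_mem ((mem_normalizer_iff.mp haN t).mp ht) (inv_mem ht)
      have h2 : ⁅a, t⁆ ∈ Y := by
        rw [commutatorElement_def, show a * t * a⁻¹ * t⁻¹ = a * (t * a⁻¹ * t⁻¹) by group]
        exact mul_mem haY (le_normalizer_iff.mp hMY t (hPM ht) _ (inv_mem haY))
      obtain ⟨k, hk⟩ := exists_pow_of_mem P.2 h1
      exact ⟨hPM ht, hpY _ h2 k hk⟩
  have ha1 : a = 1 := c.eq_one_of_centralizes ha fun n hn => by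
    have h1 := (hle (c.normalizer_A_le_M hn)).2
    have h2 : ⁅a, n⁆ ∈ c.A := by
      rw [commutatorElement_def, show a * n * a⁻¹ * n⁻¹ = a * (n * a⁻¹ * n⁻¹) by group]
      exact mul_mem ha (le_normalizer_iff.mp le_rfl n hn _ (inv_mem ha))
    exact (commutatorElement_eq_one_iff_mul_comm.mp
      (eq_one_of_mem_mem c.hAcop (opG_isPGroup c.M) h2 h1)).symm
  rw [ha1, inv_one, one_mul] at hax
  obtain ⟨k, hk⟩ := exists_pow_of_mem (opG_isPGroup c.M) hax
  exact eq_one_of_coprime_of_pow hhc hk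

/-- No characteristic subgroup of a maximal `p`-subgroup of `M` has its normalizer inside `M`. -/
theorem false_of_normalizer_le {S Z : Subgroup G} (hSM : S ≤ c.M) (hS : IsPGroup p S)
    (hmax : ∀ T : Subgroup G, IsPGroup p T → S ≤ T → T ≤ c.M → T = S)
    (hchar : normalizer (S : Set G) ≤ normalizer (Z : Set G))
    (hZ : normalizer (Z : Set G) ≤ c.M) : False := by
  obtain ⟨P, hP⟩ := hS.exists_le_sylow
  have hPS : (P : Subgroup G) = S := by
    refine (hP.eq_or_lt.resolve_right fun hlt => ?_).symm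
    have h := Techniques.Functor.lt_nS P.2 hlt
    exact h.ne' (hmax _ (P.2.to_le inf_le_left) h.le
      (inf_le_right.trans (hchar.trans hZ)))
  obtain ⟨h, hh, hhc, hh1⟩ := c.exists_normalizing P
  exact hh1 (c.eq_one_of_normalizes_sylow P (hPS ▸ hSM) (hZ (hchar (hPS ▸ hh))) hh hhc)

end Ctx

end Cfsg.Agent.GStructC.SmallPPrime
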