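import Cfsg.Agent.GStructC.SmallPPrime.Conj

/-!
# The unique maximal `A`-invariant `p`-subgroup and the subgroup `M`
-/

set_option autoImplicit false

namespace Cfsg.Agent.GStructC.SmallPPrime.Ctx

open Subgroup Cfsg.Agent
open scoped commutatorElement Pointwise

variable {G : Type*} [Group G] [Finite G] {p : ℕ} [hp : Fact p.Prime] (c : Ctx p G)
include c

omit hp [Finite G] in
/-- `A` is abelian, as an instance. -/
theorem isMulCommutative_of_le {B : Subgroup G} (h : B ≤ c.A) : IsMulCommutative B :=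
  ⟨⟨fun a b => Subtype.ext (c.A_comm (h a.2) (h b.2))⟩⟩

/-- The elements of `Q` of order dividing `q`. -/
def Omega : Subgroup G where
  carrier := {x | x ∈ (c.Q : Subgroup G) ∧ x ^ c.q = 1}
  one_mem' := ⟨one_mem _, one_pow _⟩
  mul_mem' := fun {a b} ha hb => ⟨mul_mem ha.1 hb.1, by
    rw [(show Commute a b from c.A_comm (c.hQA ha.1) (c.hQA hb.1)).mul_pow, ha.2, hb.2, one_mul]⟩
  inv_mem' := fun {a} ha => ⟨inv_mem ha.1, by rw [inv_pow, ha.2, inv_one]⟩

omit hp in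
theorem pair_le {a b : G} (ha : a ∈ c.Omega) (hb : b ∈ c.Omega) :
    closure {a, b} ≤ c.Omega := by
  rw [closure_le]
  rintro x (rfl | rfl) <;> assumption

omit hp in
theorem Omega_le_A : c.Omega ≤ c.A := fun _ hx => c.hQA hx.1

omit hp in
theorem card_pair_le {a b : G} (ha : a ∈ c.Omega) (hb : b ∈ c.Omega) :
    Nat.card ↥(closure {a, b}) ≤ c.q ^ 2 := by
  have hq0 := c.hq.pos
  have hc : Commute a b := c.A_comm (c.Omega_le_A ha) (c.Omega_le_A hb)
  let P : Subgroup G :=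
    { carrier := {x | ∃ ij : Fin c.q × Fin c.q, x = a ^ (ij.1 : ℕ) * b ^ (ij.2 : ℕ)}
      one_mem' := ⟨(⟨0, hq0⟩, ⟨0, hq0⟩), by simp⟩
      mul_mem' := by
        rintro _ _ ⟨⟨i, j⟩, rfl⟩ ⟨⟨i', j'⟩, rfl⟩
        refine ⟨(⟨(i + i' : ℕ) % c.q, Nat.mod_lt _ hq0⟩, ⟨(j + j' : ℕ) % c.q, Nat.mod_lt _ hq0⟩),
          ?_⟩
        simp only
        rw [← pow_eq_pow_mod _ ha.2, ← pow_eq_pow_mod _ hb.2, pow_add, pow_add,
          (hc.symm.pow_pow (j : ℕ) (i' : ℕ)).mul_mul_mul_comm]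
      inv_mem' := by
        rintro _ ⟨⟨i, j⟩, rfl⟩
        refine ⟨(⟨(c.q - i : ℕ) % c.q, Nat.mod_lt _ hq0⟩, ⟨(c.q - j : ℕ) % c.q, Nat.mod_lt _ hq0⟩),
          ?_⟩
        simp only
        rw [← pow_eq_pow_mod _ ha.2, ← pow_eq_pow_mod _ hb.2, inv_eq_iff_mul_eq_one,
          (hc.symm.pow_pow (j : ℕ) (c.q - i : ℕ)).mul_mul_mul_comm, ← pow_add, ← pow_add,
          Nat.add_sub_cancel' i.2.le, Nat.add_sub_cancel' j.2.le, ha.2, hb.2, mul_one] }
  have hle : closure {a, b} ≤ P := by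
    rw [closure_le]
    have h1 : 1 < c.q := c.hq.one_lt
    rintro x (rfl | rfl)
    · exact ⟨(⟨1, h1⟩, ⟨0, hq0⟩), by simp⟩
    · exact ⟨(⟨0, hq0⟩, ⟨1, h1⟩), by simp⟩
  refine (Nat.card_le_card_of_injective _ (Set.inclusion_injective hle)).trans ?_
  have hs : Function.Surjective
      (fun ij : Fin c.q × Fin c.q => (⟨a ^ (ij.1 : ℕ) * b ^ (ij.2 : ℕ), ij, rfl⟩ : P)) := by
    rintro ⟨x, ij, rfl⟩
    exact ⟨ij, rfl⟩
  refine (Nat.card_le_card_of_surjective _ hs).trans ?_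
  rw [Nat.card_prod, Nat.card_fin, sq]

/-- `Ω(Q)` is not generated by two elements. -/
theorem exists_not_mem_pair {a b : G} (ha : a ∈ c.Omega) (hb : b ∈ c.Omega) :
    ∃ d ∈ c.Omega, d ∉ closure {a, b} := by
  classical
  by_contra! hcon
  haveI := Fact.mk c.hq
  have hcard : Nat.card c.Omega ≤ c.q ^ 2 :=
    (Nat.card_le_card_of_injective _ (Set.inclusion_injective hcon)).trans (c.card_pair_le ha hb)
  obtain ⟨x₀, hx₀⟩ := exists_prime_orderOf_dvd_card' (G := (c.Q : Subgroup G)) c.q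
    (c.Q.dvd_card_of_dvd_card c.hqd)
  set x : G := (x₀ : G) with hx
  have hxq : x ^ c.q = 1 := by
    have h0 : x₀ ^ c.q = 1 := orderOf_dvd_iff_pow_eq_one.mp (dvd_of_eq hx₀)
    rw [hx, ← Subgroup.coe_pow, h0, Subgroup.coe_one]
  have hx1 : x ≠ 1 := fun h => by
    have : x₀ = 1 := Subtype.ext h
    rw [this, orderOf_one] at hx₀
    exact c.hq.ne_one hx₀.symm
  have hxQ : x ∈ (c.Q : Subgroup G) := x₀.2
  refine hx1 (c.eq_one_of_centralizes_normalizer hxQ fun n hn => ?_)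
  obtain ⟨u, v, huv, hu, hv, ⟨k, hk⟩, hvc⟩ := exists_split (p := p) n
  have hvA : v ∈ c.A := c.mem_A hvc fun a ha =>
    (le_normalizer_iff.mp le_rfl) v (zpowers_le.mpr hn hv) a ha
  suffices hux : u * x * u⁻¹ = x by
    rw [← huv, mul_assoc, c.A_comm hvA (c.hQA hxQ), ← mul_assoc]
    conv_rhs => rw [← mul_assoc, ← hux]
    group
  have hun : u ∈ normalizer (c.A : Set G) := zpowers_le.mpr hn hu
  have huQ := c.normalizer_A_le_normalizer_Q hun
  -- the orbit of the line through `x`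
  set σ : Subgroup (MulAut G) := zpowers (MulAut.conj u)
  have hσ : IsPGroup p σ := by
    rintro ⟨y, hy⟩
    obtain ⟨i, rfl⟩ := mem_zpowers_iff.mp hy
    refine ⟨k, Subtype.ext ?_⟩
    rw [Subgroup.coe_pow, Subgroup.coe_one, ← zpow_natCast, ← zpow_mul, mul_comm, zpow_mul,
      zpow_natCast, ← map_pow, hk, map_one, one_zpow]
  set L₀ := zpowers x
  have hcardL₀ : Nat.card L₀ = c.q := by
    rw [Nat.card_zpowers]
    exact orderOf_eq_prime hxq hx1
  obtain ⟨i, hi⟩ := hσ.card_orbit L₀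
  rcases Nat.eq_zero_or_pos i with rfl | hi0
  · rw [pow_zero, Nat.card_eq_one_iff_unique] at hi
    have hfix : (⟨MulAut.conj u, mem_zpowers _⟩ : σ) • L₀ = L₀ :=
      congrArg Subtype.val (hi.1.elim ⟨_, MulAction.mem_orbit L₀ _⟩ ⟨_, MulAction.mem_orbit_self L₀⟩)
    have hn' : u ∈ normalizer (L₀ : Set G) := mem_normalizer_of_conj_mem fun y hy => by
      rw [← hfix]
      exact Subgroup.smul_mem_pointwise_smul y (MulAut.conj u) L₀ hy
    exact c.centralizes_of_cyclic (zpowers_le.mpr hxQ) hk hn' x (mem_zpowers x)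
  exfalso
  have hmem : ∀ L : ↥(MulAction.orbit σ L₀), Nat.card ↥(L : Subgroup G) = c.q ∧
      (L : Subgroup G) ≤ c.Omega := by
    rintro ⟨_, ⟨⟨g, hg⟩, rfl⟩⟩
    refine ⟨?_, ?_⟩
    · rw [← hcardL₀]
      exact (Nat.card_congr (Subgroup.equivSMul g L₀).toEquiv).symm
    · obtain ⟨j, rfl⟩ := mem_zpowers_iff.mp hg
      intro y hy
      change y ∈ (MulAut.conj u ^ j) • L₀ at hy
      rw [← map_zpow, Subgroup.mem_pointwise_smul_iff_inv_smul_mem] at hy
      have hz : (u ^ j)⁻¹ * y * u ^ j ∈ c.Omega := by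
        have h1 : L₀ ≤ c.Omega := zpowers_le.mpr ⟨hxQ, hxq⟩
        have h2 := h1 hy
        rwa [← map_inv, MulAut.smul_def, MulAut.conj_apply, inv_inv] at h2
      have hyQ := (le_normalizer_iff.mp le_rfl) _ (zpow_mem huQ j) _ hz.1
      refine ⟨by simpa [mul_assoc] using hyQ, ?_⟩
      have := hz.2
      rw [show (u ^ j)⁻¹ * y * u ^ j = (u ^ j)⁻¹ * y * ((u ^ j)⁻¹)⁻¹ by rw [inv_inv], conj_pow]
        at this
      calc y ^ c.q = u ^ j * ((u ^ j)⁻¹ * y ^ c.q * (u ^ j)⁻¹⁻¹) * (u ^ j)⁻¹ := by group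
        _ = 1 := by rw [this, mul_one, mul_inv_cancel]
  let f : (Σ L : ↥(MulAction.orbit σ L₀), {z : ↥(L : Subgroup G) // z ≠ 1}) →
      {z : c.Omega // z ≠ 1} := fun e =>
    ⟨⟨(e.2.1 : G), (hmem e.1).2 e.2.1.2⟩, fun h => e.2.2 (Subtype.ext
      (show (e.2.1 : G) = 1 from congrArg Subtype.val h))⟩
  have hgen : ∀ L : ↥(MulAction.orbit σ L₀), ∀ z : ↥(L : Subgroup G), z ≠ 1 →
      (L : Subgroup G) = zpowers (z : G) := fun L z hz => by
    refine (eq_of_le_of_card_ge (zpowers_le.mpr z.2) ?_).symm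
    rw [(hmem L).1, Nat.card_zpowers, Subgroup.orderOf_coe]
    refine (orderOf_eq_prime ?_ hz).ge
    conv_lhs => rw [← (hmem L).1]
    exact pow_card_eq_one'
  have hf : Function.Injective f := by
    rintro ⟨L, z, hz⟩ ⟨L', z', hz'⟩ h
    have h' : (z : G) = z' := congrArg (fun e => (e.1 : G)) h
    have hL : L = L' := Subtype.ext (by rw [hgen L z hz, hgen L' z' hz', h'])
    subst hL
    exact Sigma.ext rfl (heq_of_eq (Subtype.ext (Subtype.ext h')))
  have hne : ∀ (H : Subgroup G), Nat.card {z : H // z ≠ 1} = Nat.card H - 1 := fun H => by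
    haveI := Fintype.ofFinite H
    rw [Nat.card_eq_fintype_card, Nat.card_eq_fintype_card, Fintype.card_subtype_compl,
      Fintype.card_subtype_eq]
  have h1 := Nat.card_le_card_of_injective f hf
  haveI := Fintype.ofFinite ↥(MulAction.orbit σ L₀)
  rw [Nat.card_sigma, hne, Finset.sum_congr rfl (fun L _ => by rw [hne, (hmem L).1]),
    Finset.sum_const, Finset.card_univ, ← Nat.card_eq_fintype_card, hi, smul_eq_mul] at h1
  have hp2 := c.five
  have hd := Nat.le_of_dvd (by omega) (c.small _ c.hq c.hqd c.hqp)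
  have hne2 : c.q ≠ p - 1 := fun h => by
    rcases c.hq.eq_two_or_odd with h2 | h2
    · omega
    · rcases hp.out.eq_two_or_odd with h3 | h3 <;> omega
  have hpi : p ≤ p ^ i := Nat.le_self_pow hi0.ne' p
  have h2 : p ^ i * (c.q - 1) ≤ c.q ^ 2 - 1 := h1.trans (Nat.sub_le_sub_right hcard 1)
  have h3 : (c.q + 2) * (c.q - 1) ≤ p ^ i * (c.q - 1) :=
    Nat.mul_le_mul_right _ (by omega)
  have h4 : 2 ≤ c.q := c.hq.two_le
  obtain ⟨r, hr⟩ : ∃ r, c.q = r + 2 := ⟨c.q - 2, by omega⟩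
  rw [hr] at h2 h3
  rw [show r + 2 - 1 = r + 1 by omega] at h2 h3
  have h5 : (r + 2) ^ 2 - 1 = (r + 3) * (r + 1) := by
    rw [show (r + 2) ^ 2 = (r + 3) * (r + 1) + 1 by ring, Nat.add_sub_cancel]
  rw [h5] at h2
  nlinarith

/-- Every element of `Ω(Q)` is avoided by some noncyclic subgroup of `Ω(Q)`. -/
theorem exists_noncyclic_not_mem {b : G} (hb : b ∈ c.Omega) (hb1 : b ≠ 1) :
    ∃ V : Subgroup G, V ≤ c.Omega ∧ ¬ IsCyclic V ∧ b ∉ V := by
  haveI := Fact.mk c.hq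
  obtain ⟨a, ha, hab⟩ := c.exists_not_mem_pair hb hb
  obtain ⟨d, hd, hdab⟩ := c.exists_not_mem_pair hb ha
  have ha1 : a ≠ 1 := fun h => hab (h ▸ one_mem _)
  have hza : zpowers a ≤ closure {b, a} := zpowers_le.mpr (subset_closure (by simp))
  have hza' : zpowers a ≤ closure {a, d} := zpowers_le.mpr (subset_closure (by simp))
  have hcard : Nat.card (zpowers a) = c.q := by
    rw [Nat.card_zpowers]
    exact orderOf_eq_prime ha.2 ha1
  have hbig : ∀ V : Subgroup G, V ≤ c.Omega → zpowers a ≤ V → ∀ y ∈ V, y ∉ zpowers a →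
      c.q ^ 2 ≤ Nat.card V := by
    intro V hV haV y hy hya
    obtain ⟨k, hk⟩ := IsPGroup.iff_card.mp (c.Q.2.to_le fun x hx => (hV hx).1)
    have hlt : c.q < Nat.card V := by
      rw [← hcard]
      refine lt_of_le_of_ne (Nat.card_le_card_of_injective _ (Set.inclusion_injective haV))
        fun he => hya ?_
      rw [eq_of_le_of_card_ge haV he.ge]
      exact hy
    rw [hk] at hlt ⊢
    refine Nat.pow_le_pow_right c.hq.pos ?_
    by_contra hlt'
    have hk1 : c.q ^ k ≤ c.q ^ 1 := Nat.pow_le_pow_right c.hq.pos (by omega)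
    rw [pow_one] at hk1
    omega
  have hda : d ∉ zpowers a := fun h => hdab (hza h)
  refine ⟨closure {a, d}, c.pair_le ha hd, fun hcyc => ?_, fun hbV => ?_⟩
  · obtain ⟨g, hg⟩ := hcyc.exists_generator
    have h1 : Nat.card ↥(closure {a, d}) = orderOf (g : G) := by
      rw [Subgroup.orderOf_coe, orderOf_eq_card_of_forall_mem_zpowers hg]
    have h2 : orderOf (g : G) ≤ c.q :=
      Nat.le_of_dvd c.hq.pos (orderOf_dvd_of_pow_eq_one (c.pair_le ha hd g.2).2)
    have h3 := hbig _ (c.pair_le ha hd) hza' d (subset_closure (by simp)) hda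
    have h4 : c.q < c.q ^ 2 := lt_self_pow₀ c.hq.one_lt one_lt_two
    omega
  · have hle : closure {b, a} ≤ closure {a, d} := by
      rw [closure_le]
      rintro x (rfl | rfl)
      exacts [hbV, subset_closure (by simp)]
    have hba : b ∉ zpowers a := fun h => hab (by
      have hz : zpowers b = zpowers a := by
        refine eq_of_le_of_card_ge (zpowers_le.mpr h) ?_
        rw [hcard, Nat.card_zpowers, orderOf_eq_prime hb.2 hb1]
      exact zpowers_le.mpr (subset_closure (by simp : b ∈ ({b, b} : Set G)))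
        (hz ▸ mem_zpowers a))
    have h1 := hbig _ (c.pair_le hb ha) hza b (subset_closure (by simp)) hba
    have he := eq_of_le_of_card_ge hle ((c.card_pair_le ha hd).trans h1)
    exact hdab (he ▸ subset_closure (by simp))

omit hp [Finite G] in
/-- An `A`-invariant `p`-subgroup. -/
def Inv (c : Ctx p G) (R : Subgroup G) : Prop :=
  IsPGroup p R ∧ c.A ≤ normalizer (R : Set G)

theorem inv_opG {H : Subgroup G} (hAH : c.A ≤ H) : c.Inv (opG p H) :=
  ⟨opG_isPGroup H, hAH.trans (le_normalizer_opG H)⟩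

theorem exists_maximal_inv {R : Subgroup G} (hR : c.Inv R) :
    ∃ W, R ≤ W ∧ c.Inv W ∧ ∀ R', c.Inv R' → W ≤ R' → R' = W := by
  obtain ⟨W, ⟨hRW, hW⟩, hmax⟩ := Set.exists_max_image {W : Subgroup G | R ≤ W ∧ c.Inv W}
    (fun W => Nat.card W) (Set.toFinite _) ⟨R, le_rfl, hR⟩
  exact ⟨W, hRW, hW, fun R' hR' hle =>
    (eq_of_le_of_card_ge hle (hmax R' ⟨hRW.trans hle, hR'⟩)).symm⟩

/-- A noncyclic subgroup of `A` has an element with a nontrivial fixed point. -/
theorem exists_fixed {R V : Subgroup G} (hR : c.Inv R) (h0 : R ≠ ⊥) (hVA : V ≤ c.A)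
    (hV : ¬ IsCyclic V) : ∃ v ∈ V, v ≠ 1 ∧ R ⊓ centralizer {v} ≠ ⊥ := by
  haveI := c.isMulCommutative_of_le hVA
  obtain ⟨k, hk⟩ := IsPGroup.iff_card.mp hR.1
  by_contra! h
  refine h0 (le_bot_iff.mp ?_)
  rw [← Coprime.fixedGen_eq hV (hVA.trans hR.2)
    (by rw [hk]; exact (c.hAcop.coprime_dvd_left (card_dvd_of_le hVA)).pow_right k)]
  exact iSup₂_le fun a ha => (h a ha.1 ha.2).le

theorem le_normalizer_inf_centralizer {R : Subgroup G} (hR : c.Inv R) {v : G} (hv : v ∈ c.A) :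
    c.Inv (R ⊓ centralizer {v}) := by
  refine ⟨hR.1.to_le inf_le_left, fun a ha => mem_normalizer_of_conj_mem fun y hy => ?_⟩
  refine ⟨(le_normalizer_iff.mp hR.2) a ha y hy.1, mem_centralizer_singleton_iff.mpr ?_⟩
  have e1 := c.A_comm ha hv
  have e2 := mem_centralizer_singleton_iff.mp hy.2
  calc a * y * a⁻¹ * v = a * (y * v) * a⁻¹ := by
        rw [mul_assoc (a * y), show a⁻¹ * v = v * a⁻¹ from c.A_comm (inv_mem ha) hv]; group
    _ = a * (v * y) * a⁻¹ := by rw [e2]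
    _ = v * (a * y * a⁻¹) := by rw [← mul_assoc, e1]; group

/-- Two maximal `A`-invariant `p`-subgroups coincide. -/
theorem maximal_inv_unique : ∀ W₁ W₂ : Subgroup G,
    c.Inv W₁ → (∀ R, c.Inv R → W₁ ≤ R → R = W₁) →
    c.Inv W₂ → (∀ R, c.Inv R → W₂ ≤ R → R = W₂) → W₁ = W₂ := by
  suffices ∀ (m : ℕ) (W₁ W₂ : Subgroup G), Nat.card G - Nat.card ↥(W₁ ⊓ W₂) = m →
      c.Inv W₁ → (∀ R, c.Inv R → W₁ ≤ R → R = W₁) →
      c.Inv W₂ → (∀ R, c.Inv R → W₂ ≤ R → R = W₂) → W₁ = W₂ from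
    fun W₁ W₂ => this _ W₁ W₂ rfl
  intro m
  induction m using Nat.strong_induction_on with
  | _ m IH => ?_
  intro W₁ W₂ hm h₁ m₁ h₂ m₂
  by_contra hne
  set D := W₁ ⊓ W₂
  -- both parts lie in a common invariant subgroup
  have step : ∀ R₁ R₂ H : Subgroup G, H ≠ ⊤ → c.A ≤ H → c.Inv R₁ → c.Inv R₂ → R₁ ≤ W₁ →
      R₂ ≤ W₂ → R₁ ≤ H → R₂ ≤ H → D < R₁ → D < R₂ → False := by
    intro R₁ R₂ H hH hAH i₁ i₂ l₁ l₂ k₁ k₂ s₁ s₂
    obtain ⟨W₃, hX, h₃, m₃⟩ := c.exists_maximal_inv (c.inv_opG hAH)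
    have t₁ : R₁ ≤ W₃ := (c.le_opG_of_invariant hH hAH k₁ i₁.1 i₁.2).trans hX
    have t₂ : R₂ ≤ W₃ := (c.le_opG_of_invariant hH hAH k₂ i₂.1 i₂.2).trans hX
    have hlt : ∀ R Wi : Subgroup G, D < R → R ≤ W₃ → R ≤ Wi →
        Nat.card G - Nat.card ↥(Wi ⊓ W₃) < m := by
      intro R Wi s t l
      have h1 : Nat.card D < Nat.card ↥(Wi ⊓ W₃) := by
        refine lt_of_lt_of_le ?_ (Nat.card_le_card_of_injective _
          (Set.inclusion_injective (le_inf l t)))
        exact lt_of_le_of_ne (Nat.card_le_card_of_injective _ (Set.inclusion_injective s.le))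
          fun e => s.ne (eq_of_le_of_card_ge s.le e.ge)
      have h2 := card_le_card_group (Wi ⊓ W₃)
      omega
    have e₁ := IH _ (hlt R₁ W₁ s₁ t₁ l₁) W₁ W₃ rfl h₁ m₁ h₃ m₃
    have e₂ := IH _ (hlt R₂ W₂ s₂ t₂ l₂) W₂ W₃ rfl h₂ m₂ h₃ m₃
    exact hne (e₁.trans e₂.symm)
  have hD1 : D < W₁ := lt_of_le_of_ne inf_le_left fun e =>
    hne (m₁ W₂ h₂ (e ▸ inf_le_right)).symm
  have hD2 : D < W₂ := lt_of_le_of_ne inf_le_right fun e =>
    hne (m₂ W₁ h₁ (e ▸ inf_le_left))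
  by_cases hD : D = ⊥
  · -- use a common element with nontrivial fixed points
    have hW₁ : W₁ ≠ ⊥ := fun e => by rw [e] at hD1; exact not_lt_bot hD1
    have hW₂ : W₂ ≠ ⊥ := fun e => by rw [e] at hD2; exact not_lt_bot hD2
    obtain ⟨b₀, hb₀, hb₀1⟩ : ∃ b ∈ c.Omega, b ≠ 1 := by
      obtain ⟨d, hd, hd'⟩ := c.exists_not_mem_pair c.Omega.one_mem c.Omega.one_mem
      exact ⟨d, hd, fun e => hd' (by rw [e]; exact one_mem _)⟩
    obtain ⟨V₀, hV₀, hV₀c, -⟩ := c.exists_noncyclic_not_mem hb₀ hb₀1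
    obtain ⟨b₁, hb₁, hb₁1, hf₁⟩ := c.exists_fixed h₁ hW₁ (hV₀.trans c.Omega_le_A) hV₀c
    obtain ⟨V₁, hV₁, hV₁c, hbV₁⟩ := c.exists_noncyclic_not_mem (hV₀ hb₁) hb₁1
    have hbA := c.Omega_le_A (hV₀ hb₁)
    obtain ⟨b₂, hb₂, hb₂1, hf₂⟩ := c.exists_fixed (c.le_normalizer_inf_centralizer h₁ hbA) hf₁
      (hV₁.trans c.Omega_le_A) hV₁c
    set L := closure {b₁, b₂}
    have hLO : L ≤ c.Omega := c.pair_le (hV₀ hb₁) (hV₁ hb₂)
    haveI := Fact.mk c.hq
    have hLnc : ¬ IsCyclic L := by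
      intro hcyc
      have hz : ∀ y ∈ L, y ≠ 1 → zpowers y = L := by
        intro y hy hy1
        obtain ⟨g, hg⟩ := hcyc.exists_generator
        refine eq_of_le_of_card_ge (zpowers_le.mpr hy) ?_
        rw [Nat.card_zpowers, orderOf_eq_prime (hLO hy).2 hy1,
          ← orderOf_eq_card_of_forall_mem_zpowers hg, ← Subgroup.orderOf_coe]
        exact Nat.le_of_dvd c.hq.pos (orderOf_dvd_of_pow_eq_one (hLO g.2).2)
      have : b₁ ∈ zpowers b₂ := by
        rw [hz b₂ (subset_closure (by simp)) hb₂1]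
        exact subset_closure (by simp)
      exact hbV₁ (zpowers_le.mpr hb₂ this)
    obtain ⟨v, hv, hv1, hfv⟩ := c.exists_fixed h₂ hW₂ (hLO.trans c.Omega_le_A) hLnc
    have hvA := c.Omega_le_A (hLO hv)
    have hf : W₁ ⊓ centralizer {v} ≠ ⊥ := fun e => hf₂ (le_bot_iff.mp (e ▸ le_inf
      (inf_le_left.trans inf_le_left) fun y hy => by
        have h1 : L ≤ centralizer {y} := by
          rw [closure_le]
          rintro x (rfl | rfl)
          · exact mem_centralizer_singleton_iff.mpr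
              (mem_centralizer_singleton_iff.mp hy.1.2).symm
          · exact mem_centralizer_singleton_iff.mpr
              (mem_centralizer_singleton_iff.mp hy.2).symm
        exact mem_centralizer_singleton_iff.mpr (mem_centralizer_singleton_iff.mp (h1 hv)).symm))
    refine step _ _ (centralizer {v}) ?_ ?_ (c.le_normalizer_inf_centralizer h₁ hvA)
      (c.le_normalizer_inf_centralizer h₂ hvA) inf_le_left inf_le_left inf_le_right inf_le_right
      (hD ▸ bot_lt_iff_ne_bot.mpr hf) (hD ▸ bot_lt_iff_ne_bot.mpr hfv)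
    · rw [← centralizer_closure, ← zpowers_eq_closure]
      exact c.centralizer_ne_top (by simpa using hv1)
    · exact fun a ha => mem_centralizer_singleton_iff.mpr (c.A_comm ha hvA)
  · have hN : normalizer (D : Set G) ≠ ⊤ := c.normalizer_ne_top hD
      (c.ne_top_of_isPGroup (h₁.1.to_le inf_le_left))
    have hAD : c.A ≤ normalizer (D : Set G) :=
      (le_inf h₁.2 h₂.2).trans inf_normalizer_le_normalizer_inf
    have hgrow : ∀ Wi : Subgroup G, c.Inv Wi → D < Wi →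
        D < Wi ⊓ normalizer (D : Set G) ∧ c.Inv (Wi ⊓ normalizer (D : Set G)) := by
      intro Wi hi hlt
      refine ⟨?_, hi.1.to_le inf_le_left, fun a ha => mem_normalizer_of_conj_mem fun y hy => ?_⟩
      · haveI : Group.IsNilpotent Wi := hi.1.isNilpotent
        refine lt_of_le_of_ne (le_inf hlt.le le_normalizer) fun e => ?_
        have h1 : D.subgroupOf Wi < ⊤ := by
          refine lt_top_iff_ne_top.mpr fun h => hlt.ne ?_
          exact le_antisymm hlt.le (subgroupOf_eq_top.mp h)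
        obtain ⟨w, hw, hw'⟩ := SetLike.exists_of_lt
          (normalizerCondition_of_isNilpotent _ h1)
        apply hw'
        rw [mem_subgroupOf, e]
        refine ⟨w.2, mem_normalizer_of_conj_mem fun d hd => ?_⟩
        exact (le_normalizer_iff.mp le_rfl) w hw (⟨d, hlt.le hd⟩ : Wi) (mem_subgroupOf.mpr hd)
      · exact ⟨(le_normalizer_iff.mp hi.2) a ha y hy.1,
          (normalizer (D : Set G)).mul_mem ((normalizer (D : Set G)).mul_mem (hAD ha) hy.2)
            ((normalizer (D : Set G)).inv_mem (hAD ha))⟩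
    obtain ⟨g₁, i₁⟩ := hgrow W₁ h₁ hD1
    obtain ⟨g₂, i₂⟩ := hgrow W₂ h₂ hD2
    exact step _ _ _ hN hAD i₁ i₂ inf_le_left inf_le_left inf_le_right inf_le_right g₁ g₂

theorem exists_greatest_inv : ∃ W, c.Inv W ∧ ∀ R, c.Inv R → R ≤ W := by
  obtain ⟨W, -, hW, hmax⟩ := c.exists_maximal_inv (R := ⊥)
    ⟨IsPGroup.of_bot, by rw [normalizer_eq_top_iff.mpr inferInstance]; exact le_top⟩
  refine ⟨W, hW, fun R hR => ?_⟩
  obtain ⟨W', hRW', hW', hmax'⟩ := c.exists_maximal_inv hR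
  exact c.maximal_inv_unique W' W hW' hmax' hW hmax ▸ hRW'

end Cfsg.Agent.GStructC.SmallPPrime.Ctx
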