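import Cfsg.Agent.GStructC.SmallPPrime.Count
import Cfsg.Agent.Lib.Characters.Burnside
import Cfsg.Agent.Lib.Hall.MinimalNormal

/-!
# Solvability when the subgroups of order prime to `p` are abelian of exponent dividing `p - 1`
-/

set_option autoImplicit false

namespace Cfsg.Agent.GStructC.SmallPPrime

open Subgroup Cfsg.Agent

universe u

variable {p : ℕ} [hp : Fact p.Prime]

/-- The hypothesis. -/
def SmallAb (p : ℕ) (G : Type*) [Group G] : Prop :=
  ∀ H : Subgroup G, (Nat.card H).Coprime p → IsMulCommutative H ∧ ∀ x ∈ H, x ^ (p - 1) = 1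

theorem SmallAb.abPPrime {G : Type*} [Group G] (h : SmallAb p G) : AbPPrime p G :=
  fun H hH => (h H hH).1

theorem SmallAb.small {G : Type*} [Group G] [Finite G] (h : SmallAb p G) {r : ℕ} (hr : r.Prime)
    (hd : r ∣ Nat.card G) (hne : r ≠ p) : r ∣ p - 1 := by
  haveI := Fact.mk hr
  obtain ⟨x, hx⟩ := exists_prime_orderOf_dvd_card' r hd
  have h1 := (h (zpowers x) (by
    rw [Nat.card_zpowers, hx]
    exact (Nat.coprime_primes hr hp.out).mpr hne)).2 x (mem_zpowers x)
  exact hx ▸ orderOf_dvd_of_pow_eq_one h1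

omit hp in
theorem SmallAb.subgroup {G : Type*} [Group G] (h : SmallAb p G) (K : Subgroup G) :
    SmallAb p K := by
  intro W hW
  obtain ⟨hc, he⟩ := h (W.map K.subtype) (by rwa [card_subtype])
  refine ⟨⟨⟨fun a b => Subtype.ext (Subtype.ext ?_)⟩⟩, fun x hx => Subtype.ext ?_⟩
  · have h2 := congrArg Subtype.val
      (hc.is_comm.comm (⟨((a : K) : G), a, a.2, rfl⟩ : ↥(W.map K.subtype))
        ⟨((b : K) : G), b, b.2, rfl⟩)
    simpa using h2
  · rw [Subgroup.coe_pow, Subgroup.coe_one]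
    exact he _ ⟨x, hx, rfl⟩

theorem SmallAb.quotient_pGroup {G : Type*} [Group G] [Finite G] (h : SmallAb p G)
    (N : Subgroup G) [N.Normal] (hN : IsPGroup p N) : SmallAb p (G ⧸ N) := by
  intro W hW
  refine ⟨abPPrime_quotient_pGroup h.abPPrime N hN W hW, fun x hx => ?_⟩
  obtain ⟨z, rfl⟩ := QuotientGroup.mk'_surjective N x
  obtain ⟨a, b, hab, ha, hb, ⟨k, hk⟩, hbc⟩ := exists_split (p := p) z
  have haW : QuotientGroup.mk' N a ∈ W := by
    obtain ⟨i, rfl⟩ := mem_zpowers_iff.mp ha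
    rw [map_zpow]
    exact zpow_mem hx i
  have ha1 : QuotientGroup.mk' N a = 1 := eq_one_of_coprime_of_pow
    (coprime_orderOf_of_mem hW haW) (k := k) (by rw [← map_pow, hk, map_one])
  have hb1 := (h (zpowers b) (by rwa [Nat.card_zpowers])).2 b (mem_zpowers b)
  rw [← hab, map_mul, ha1, one_mul, ← map_pow, hb1, map_one]

omit hp in
theorem SmallAb.quotient_pPrime {G : Type*} [Group G] [Finite G] (h : SmallAb p G)
    (N : Subgroup G) [N.Normal] (hN : (Nat.card N).Coprime p) : SmallAb p (G ⧸ N) := by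
  intro W hW
  obtain ⟨hc, he⟩ := h (W.comap (QuotientGroup.mk' N)) (by
    rw [Cores.card_comap_mk']
    first
      | exact hN.mul_left hW
      | exact hW.mul_left hN)
  refine ⟨⟨⟨fun a b => Subtype.ext ?_⟩⟩, fun x hx => ?_⟩
  · obtain ⟨y, hy⟩ := QuotientGroup.mk'_surjective N (a : G ⧸ N)
    obtain ⟨z, hz⟩ := QuotientGroup.mk'_surjective N (b : G ⧸ N)
    have e : y * z = z * y := congrArg Subtype.val
      (hc.is_comm.comm ⟨y, show QuotientGroup.mk' N y ∈ W from hy ▸ a.2⟩
        ⟨z, show QuotientGroup.mk' N z ∈ W from hz ▸ b.2⟩)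
    show (a : G ⧸ N) * b = b * a
    rw [← hy, ← hz, ← map_mul, e, map_mul]
  · obtain ⟨y, rfl⟩ := QuotientGroup.mk'_surjective N x
    rw [← map_pow, he y hx, map_one]

theorem isSolvable_aux (h5 : 5 ≤ p) (n : ℕ) : ∀ (G : Type u) [Group G] [Finite G],
    Nat.card G = n → SmallAb p G → Group.IsSolvable G := by
  induction n using Nat.strong_induction_on with
  | _ n IH => ?_
  intro G _ _ hn h
  have hsol : ∀ H : Subgroup G, H ≠ ⊤ → Group.IsSolvable H := fun H hH =>
    IH _ (hn ▸ lt_of_le_of_ne (card_le_card_group H) fun e => hH (eq_top_of_card_eq H e)) H rfl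
      (h.subgroup H)
  by_cases hsimple : ∀ N : Subgroup G, N.Normal → N = ⊥ ∨ N = ⊤
  swap
  · push Not at hsimple
    obtain ⟨N, hN, hNb, hNt⟩ := hsimple
    haveI := hN
    haveI := hsol N hNt
    obtain ⟨K, hKn, hKN, hKb, hmin⟩ := Hall.exists_minimal_normal N hNb
    haveI := hKn
    haveI hKsol : Group.IsSolvable K := hsol K fun e => hNt (top_le_iff.mp (e ▸ hKN))
    obtain ⟨r, hr, -, hrK, -⟩ := Hall.minimal_normal_isElementaryAbelian hKb hmin
    have hlt : Nat.card (G ⧸ K) < n := by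
      rw [← hn, K.card_eq_card_quotient_mul_card_subgroup]
      exact (Nat.lt_mul_iff_one_lt_right Nat.card_pos).mpr ((one_lt_card_iff_ne_bot K).mpr hKb)
    haveI : Group.IsSolvable (G ⧸ K) := by
      by_cases hrp : r = p
      · exact IH _ hlt (G ⧸ K) rfl (h.quotient_pGroup K (hrp ▸ hrK))
      · haveI := Fact.mk hr
        obtain ⟨k, hk⟩ := IsPGroup.iff_card.mp hrK
        exact IH _ hlt (G ⧸ K) rfl
          (h.quotient_pPrime K (hk ▸ ((Nat.coprime_primes hr hp.out).mpr hrp).pow_left k))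
    exact (Group.isSolvable_iff_subgroup_quotient K).mpr ⟨hKsol, inferInstance⟩
  by_cases hcomm : IsMulCommutative G
  · exact Group.isSolvable_of_comm fun a b => hcomm.is_comm.comm a b
  by_cases hq : ∃ q : ℕ, q.Prime ∧ q ∣ Nat.card G ∧ q ≠ p
  swap
  · push Not at hq
    have hcard := Nat.eq_prime_pow_of_unique_prime_dvd (Nat.card_pos (α := G)).ne'
      (fun {d} hd hdv => hq d hd hdv)
    haveI := (IsPGroup.of_card (p := p) hcard).isNilpotent
    infer_instance
  obtain ⟨q, hqp, hqd, hqne⟩ := hq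
  haveI := Fact.mk hqp
  obtain ⟨Q⟩ := (inferInstance : Nonempty (Sylow q G))
  obtain ⟨k, hk⟩ := IsPGroup.iff_card.mp Q.2
  obtain ⟨B, hQB, hB⟩ := Set.Finite.exists_le_maximal
    (s := {B : Subgroup G | (Nat.card B).Coprime p ∧ (Q : Subgroup G) ≤ B})
    (Set.toFinite _) (a := (Q : Subgroup G))
    ⟨hk ▸ ((Nat.coprime_primes hqp hp.out).mpr hqne).pow_left k, le_rfl⟩
  exact ((⟨h5, fun r hr hd hne => h.small hr hd hne, h.abPPrime, hsol, hsimple, hcomm, q, hqp,
    hqne, hqd, B, hB.1.1, fun D hBD hD => (hB.eq_of_le ⟨hD, hQB.trans hBD⟩ hBD).symm, Q, hQB⟩ :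
      Ctx p G).false_of_ctx).elim

theorem isSolvable {G : Type u} [Group G] [Finite G] (h : SmallAb p G) : Group.IsSolvable G := by
  by_cases h5 : 5 ≤ p
  · exact isSolvable_aux h5 _ G rfl h
  have h2 := hp.out.two_le
  set m := Nat.card G / p ^ (Nat.card G).factorization p with hm
  have hg : Nat.card G ≠ 0 := Nat.card_pos.ne'
  have hmul : p ^ (Nat.card G).factorization p * m = Nat.card G :=
    Nat.mul_div_cancel' (Nat.ordProj_dvd _ p)
  have hprimes : ∀ {d : ℕ}, d.Prime → d ∣ m → d = 2 := fun {d} hd hdm => by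
    have hne : d ≠ p := fun e => by
      subst e
      exact Nat.not_dvd_ordCompl hp.out hg hdm
    have hd' := h.small hd (hdm.trans (Dvd.intro_left _ hmul)) hne
    have := Nat.le_of_dvd (by omega) hd'
    have := hd.two_le
    interval_cases p <;> first | omega | exact absurd hp.out (by norm_num)
  have hm2 := Nat.eq_prime_pow_of_unique_prime_dvd (n := m) (p := 2)
    (fun e => hg (by rw [← hmul, e, mul_zero])) hprimes
  rw [hm2] at hmul
  exact Characters.burnside_pa_qb hp.out Nat.prime_two hmul.symm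

end Cfsg.Agent.GStructC.SmallPPrime
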