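import Cfsg.Agent.GStructC.SmallPPrime.Factor
import Cfsg.Agent.Lib.PLocal.StronglyClosedZJ
import Cfsg.Agent.Lib.PLocal.PSolvable
import Cfsg.Agent.Lib.PLocal.SolvableSeparable

/-!
# `M` is the normalizer of `A`
-/

set_option autoImplicit false

namespace Cfsg.Agent.GStructC.SmallPPrime

open Subgroup Cfsg Cfsg.Agent Cfsg.Agent.Techniques.SL2
open scoped commutatorElement Pointwise

universe u

variable {G : Type u} [Group G] [Finite G] {p : ℕ} [hp : Fact p.Prime]

namespace Ctx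

variable (c : Ctx p G)
include c

theorem not_normalizer_A_le : ¬ normalizer (c.A : Set G) ≤ c.A := fun h => by
  refine c.A_ne_bot ((eq_bot_iff_forall _).mpr fun a ha => ?_)
  exact c.eq_one_of_centralizes ha fun n hn => c.A_comm (h hn) ha

/-- The maximal `p`-subgroups of `M` are nontrivial. -/
theorem maximal_ne_bot {S : Subgroup G}
    (hmax : ∀ T : Subgroup G, IsPGroup p T → S ≤ T → T ≤ c.M → T = S) : S ≠ ⊥ := by
  rintro rfl
  obtain ⟨n, hn, hnA⟩ := SetLike.not_le_iff_exists.mp c.not_normalizer_A_le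
  obtain ⟨u, v, huv, hu, hv, ⟨k, hk⟩, hvc⟩ := exists_split (p := p) n
  have hvA : v ∈ c.A := c.mem_A hvc fun a ha =>
    (le_normalizer_iff.mp le_rfl) v (zpowers_le.mpr hn hv) a ha
  have h := hmax (zpowers u) (c.isPGroup_zpowers hk) bot_le
    (zpowers_le.mpr (c.normalizer_A_le_M (zpowers_le.mpr hn hu)))
  rw [zpowers_eq_bot] at h
  exact hnA (by rw [← huv, h, one_mul]; exact hvA)

/-- `Q` is contained in `O_{p'}(M)`. -/
theorem Q_le_pPrimeCore : (c.Q : Subgroup G) ≤ (pPrimeCore p c.M).map c.M.subtype := by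
  haveI := Fact.mk c.hq
  haveI := c.sol c.M c.M_ne_top
  set M := c.M with hM
  set U' := pPrimeCore p M with hU'
  set π := QuotientGroup.mk' U' with hπdef
  have hπ : Function.Surjective π := QuotientGroup.mk'_surjective U'
  obtain ⟨S'⟩ := (inferInstance : Nonempty (Sylow p M))
  set SG := (S' : Subgroup M).map M.subtype
  have hmax : ∀ T : Subgroup G, IsPGroup p T → SG ≤ T → T ≤ M → T = SG := fun T hT hle hTM => by
    have h := S'.3 (hT.of_equiv (subgroupOfEquivOfLe hTM).symm)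
      (fun s hs => mem_subgroupOf.mpr (hle ⟨s, hs, rfl⟩))
    show T = (S' : Subgroup M).map M.subtype
    rw [← h, map_subgroupOf_eq_of_le hTM]
  have hSM : SG ≤ M := map_subtype_le _
  have hS : IsPGroup p SG := S'.2.map _
  set Zs : Subgroup M := PLocal.MaxAbelian.core 0 (S' : Subgroup M) with hZsdef
  have hZG : Zs.map M.subtype = centerThompsonAOf SG := by
    rw [PLocal.MaxAbelian.centerThompsonA_eq]
    exact (PLocal.MaxAbelian.core_map 0 M.subtype_injective _).symm
  have hZS : Zs ≤ S' := by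
    refine (Subgroup.map_le_map_iff_of_injective M.subtype_injective).mp ?_
    rw [hZG]
    exact (c.Z_spec hS).1
  -- `ZJ` is normal modulo `O_{p'}(M)`
  haveI hsolq : Group.IsSolvable (↥M ⧸ U') := Group.isSolvable_of_surjective hπ
  have hZq : (Zs.map π).Normal := by
    have hc := PLocal.PSolvable.centralizer_pCore_le (p := p) (G := ↥M ⧸ U')
      (Cores.pPrimeCore_quotient_self p) (PLocal.SolvableSeparable.isPSolvable_of_isSolvable p _)
    have h := ZJFusion.zj_normal_of_free c.ne_two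
      (not_involves_qd_of_solvable c.five (H := ↥M ⧸ U')) hc (S'.mapSurjective hπ)
    rw [PLocal.MaxAbelian.centerThompsonA_eq, Sylow.coe_mapSurjective,
      PLocal.StronglyClosedZJ.core_map_injOn 0 π (D := (S' : Subgroup M)) (fun x hx hx1 =>
        eq_one_of_mem_mem (Cores.pPrimeCore_card_coprime p) S'.2
          ((QuotientGroup.eq_one_iff x).mp hx1) hx)] at h
    exact h
  have hW : (U' ⊔ Zs).Normal := by
    rw [← QuotientGroup.comap_map_mk' U' Zs]
    exact hZq.comap _
  have hFr : ∀ m : M, ∃ x ∈ U', (x : G) * m ∈ normalizer (centerThompsonAOf SG : Set G) := by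
    intro m
    have hn : ∀ N : Subgroup M, N.Normal → N.map (MulAut.conj m).toMonoidHom = N := fun N hN =>
      Transfer.Fusion.map_conj_eq_self_iff.mpr ((normalizer_eq_top_iff.mpr hN).symm ▸ mem_top m)
    have heq : U' ⊔ Zs.map (MulAut.conj m).toMonoidHom = U' ⊔ Zs := by
      conv_lhs => rw [← hn U' inferInstance]
      rw [← Subgroup.map_sup]
      exact hn _ hW
    obtain ⟨k, hk⟩ := IsPGroup.iff_card.mp (S'.2.to_le hZS)
    have hcop : (Nat.card U').Coprime (Nat.card Zs) :=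
      hk ▸ (Cores.pPrimeCore_card_coprime (G := ↥M) p).pow_right k
    have hUn : normalizer (U' : Set M) = ⊤ := normalizer_eq_top_iff.mpr inferInstance
    obtain ⟨x, hx, hxe⟩ := Coprime.exists_conj_eq_of_sup_eq (N := U')
      (H := Zs.map (MulAut.conj m).toMonoidHom) (K := Zs) (hUn ▸ le_top) (hUn ▸ le_top) heq
      (by rw [Transfer.Fusion.card_map_conj]; exact hcop) hcop (Or.inl inferInstance)
    refine ⟨x, hx, mem_normalizer_of_conj_mem ?_⟩
    rw [← hZG]
    rintro _ ⟨z, hz, rfl⟩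
    refine ⟨x * m * z * (x * m)⁻¹, ?_, by simp⟩
    have h : x * (m * z * m⁻¹) * x⁻¹ ∈ MulAut.conj x • Zs.map (MulAut.conj m).toMonoidHom :=
      Subgroup.smul_mem_pointwise_smul _ (MulAut.conj x) _ ⟨z, hz, rfl⟩
    rw [hxe] at h
    simpa [mul_assoc] using h
  -- a Sylow `q`-subgroup of `N_M(Z)` is cyclic
  set NM := normalizer (centerThompsonAOf SG : Set G) ⊓ M with hNM
  set ψ : NM →* ↥M ⧸ U' := π.comp (Subgroup.inclusion inf_le_right) with hψdef
  have hψ : Function.Surjective ψ := fun y => by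
    obtain ⟨m, rfl⟩ := hπ y
    obtain ⟨x, hx, hxm⟩ := hFr m
    refine ⟨⟨(x : G) * m, hxm, (x * m).2⟩, ?_⟩
    show π (x * m) = π m
    rw [map_mul, show π x = 1 from (QuotientGroup.eq_one_iff x).mpr hx, one_mul]
  obtain ⟨R₀⟩ := (inferInstance : Nonempty (Sylow c.q NM))
  have hcyc : IsCyclic (R₀ : Subgroup NM) := by
    by_contra hnc
    set RG := (R₀ : Subgroup NM).map NM.subtype
    have hRG : IsPGroup c.q RG := R₀.2.map _
    obtain ⟨k, hk⟩ := IsPGroup.iff_card.mp hRG
    haveI := c.ab RG (hk ▸ ((Nat.coprime_primes c.hq hp.out).mpr c.hqp).pow_left k)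
    have hnc' : ¬ IsCyclic RG := fun h => hnc (by
      haveI := h
      let e := ((R₀ : Subgroup NM).equivMapOfInjective NM.subtype NM.subtype_injective).symm
      exact isCyclic_of_surjective e e.surjective)
    obtain ⟨hZle, hZ0, hchar⟩ := c.Z_spec hS
    refine c.false_of_normalizer_le hSM hS hmax hchar ?_
    exact c.le_M_of_noncyclic (V := RG)
      (c.normalizer_ne_top (hZ0 (c.maximal_ne_bot hmax)) (c.ne_top_of_isPGroup (hS.to_le hZle)))
      ((map_subtype_le _).trans inf_le_left) ((map_subtype_le _).trans inf_le_right) hRG hnc'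
  -- so the image of `Q` is cyclic
  set Q' : Sylow c.q (↥M ⧸ U') := (c.Q.subtype c.Q_le_M).mapSurjective hπ with hQ'
  haveI hcycQ : IsCyclic (Q' : Subgroup (↥M ⧸ U')) := by
    haveI := hcyc
    have hc1 : IsCyclic ((R₀.mapSurjective hψ : Sylow c.q (↥M ⧸ U')) : Subgroup (↥M ⧸ U')) :=
      isCyclic_of_surjective (ψ.subgroupMap (R₀ : Subgroup NM))
        (ψ.subgroupMap_surjective (R₀ : Subgroup NM))
    haveI := hc1
    let e := Sylow.equiv (R₀.mapSurjective hψ) Q'
    exact isCyclic_of_surjective e e.surjective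
  refine c.Q_le_of_commutator_mem fun x hx n hn => ?_
  obtain ⟨u, v, huv, hu, hv, ⟨k, hk⟩, hvc⟩ := exists_split (p := p) n
  have hvA : v ∈ c.A := c.mem_A hvc fun a ha =>
    (le_normalizer_iff.mp le_rfl) v (zpowers_le.mpr hn hv) a ha
  have huN := zpowers_le.mpr hn hu
  have huQ := c.normalizer_A_le_normalizer_Q huN
  have hxM : x ∈ M := c.Q_le_M hx
  have huM : u ∈ M := c.normalizer_A_le_M huN
  have hmemQ : ∀ (y : G) (hy : y ∈ (c.Q : Subgroup G)),
      π ⟨y, c.Q_le_M hy⟩ ∈ (Q' : Subgroup (↥M ⧸ U')) := fun y hy =>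
    ⟨⟨y, c.Q_le_M hy⟩, mem_subgroupOf.mpr hy, rfl⟩
  have hfix : π ⟨u, huM⟩ * π ⟨x, hxM⟩ * (π ⟨u, huM⟩)⁻¹ = π ⟨x, hxM⟩ := by
    refine conj_eq_of_cyclic (p := p) c.hq c.hqp (c.small _ c.hq c.hqd c.hqp) Q'.2 (k := k)
      ?_ (mem_normalizer_of_conj_mem ?_) _ (hmemQ x hx)
    · rw [← map_pow, show (⟨u, huM⟩ : M) ^ p ^ k = 1 from
        Subtype.ext (by rw [Subgroup.coe_pow, Subgroup.coe_one]; exact hk), map_one]
    · rintro _ ⟨y, hy, rfl⟩
      rw [← map_inv, ← map_mul, ← map_mul]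
      exact ⟨_, mem_subgroupOf.mpr ((mem_normalizer_iff.mp huQ (y : G)).mp hy), rfl⟩
  refine ⟨⁅(⟨x, hxM⟩ : M), ⟨u, huM⟩⁆, (QuotientGroup.eq_one_iff _).mp ?_, ?_⟩
  · show π ⁅(⟨x, hxM⟩ : M), ⟨u, huM⟩⁆ = 1
    rw [map_commutatorElement, commutatorElement_eq_one_iff_mul_comm]
    exact (mul_inv_eq_iff_eq_mul.mp hfix).symm
  · rw [map_commutatorElement]
    show ⁅x, u⁆ = ⁅x, n⁆
    rw [← huv, commutatorElement_def, commutatorElement_def,
      show x * (u * v) * x⁻¹ * (u * v)⁻¹ = x * u * (v * x⁻¹ * v⁻¹) * u⁻¹ by group,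
      c.A_comm hvA (inv_mem (c.hQA hx)), mul_inv_cancel_right]

/-- `A` is normal in `M`. -/
theorem M_le_normalizer_A : c.M ≤ normalizer (c.A : Set G) := by
  set U := (pPrimeCore p c.M).map c.M.subtype with hUdef
  have hMU : c.M ≤ normalizer (U : Set G) := by
    refine le_normalizer_iff.mpr ?_
    rintro g hg _ ⟨y, hy, rfl⟩
    exact ⟨⟨g, hg⟩ * y * ⟨g, hg⟩⁻¹,
      (inferInstance : (pPrimeCore p c.M).Normal).conj_mem y hy _, rfl⟩
  have hUA : U ≤ c.A := by
    have hUc : (Nat.card U).Coprime p := by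
      rw [card_subtype]; exact Cores.pPrimeCore_card_coprime p
    exact le_sup_right.trans (c.hAmax _ le_sup_left
      (coprime_sup c.hAcop hUc (c.A_le_M.trans hMU))).le
  suffices hAU : c.A ≤ U from (le_antisymm hUA hAU) ▸ hMU
  rw [← subgroupOf_eq_top, ← index_eq_one]
  by_contra hne
  obtain ⟨r, hr, hri⟩ := Nat.exists_prime_and_dvd hne
  haveI := Fact.mk hr
  have hcard := (U.subgroupOf c.A).card_mul_index
  obtain ⟨c', hA, hq⟩ := c.exists_swap hr (hri.trans (hcard ▸ dvd_mul_left _ _))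
  have hM : c'.M = c.M := by show localOf p c'.A = localOf p c.A; rw [hA]
  have hQU : (c'.Q : Subgroup G) ≤ U := by
    have h := c'.Q_le_pPrimeCore
    rwa [hM] at h
  haveI := Fact.mk c'.hq
  have h1 : Nat.card (c'.Q : Subgroup G) ∣ Nat.card (U.subgroupOf c.A) := by
    rw [Nat.card_congr (subgroupOfEquivOfLe hUA).toEquiv]
    exact card_dvd_of_le hQU
  have h2 : Nat.card (c'.Q : Subgroup G) * r ∣ Nat.card G := by
    refine (Nat.mul_dvd_mul h1 hri).trans ?_
    rw [hcard]
    exact card_subgroup_dvd_card c.A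
  rw [← (c'.Q : Subgroup G).card_mul_index] at h2
  exact c'.Q.not_dvd_index (hq.symm ▸ Nat.dvd_of_mul_dvd_mul_left Nat.card_pos h2)

theorem mem_A_of_mem_M {x : G} (hx : x ∈ c.M) (hxc : (orderOf x).Coprime p) : x ∈ c.A :=
  c.mem_A hxc fun a ha => (le_normalizer_iff.mp le_rfl) x (c.M_le_normalizer_A hx) a ha

theorem M_le_of_maximal {S R : Subgroup G} (hSM : S ≤ c.M) (hS : IsPGroup p S)
    (hmax : ∀ T : Subgroup G, IsPGroup p T → S ≤ T → T ≤ c.M → T = S) (hA : c.A ≤ R)
    (hSR : S ≤ R) : c.M ≤ R :=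
  (le_sup_of_maximal c.A_le_M c.M_le_normalizer_A
    (fun _ hn => c.exists_pow_mem_A (c.M_le_normalizer_A hn)) hSM hS hmax).trans (sup_le hA hSR)

/-- The centralizer of a `p`-element commuting with a nontrivial element of `Q` lies in `M`. -/
theorem centralizer_le_M_of_commute {u b : G} {k : ℕ} (hk : u ^ p ^ k = 1) (hu1 : u ≠ 1)
    (hbQ : b ∈ (c.Q : Subgroup G)) (hb1 : b ≠ 1) (hub : u * b = b * u) :
    centralizer {u} ≤ c.M := by
  have huM : u ∈ c.M := c.centralizer_le_M (c.hQA hbQ) hb1 (mem_centralizer_singleton_iff.mpr hub)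
  set C := (c.Q : Subgroup G) ⊓ centralizer {u} with hC
  haveI := c.isMulCommutative_of_le (B := C) (inf_le_left.trans c.hQA)
  by_cases hcyc : IsCyclic C
  swap
  · refine c.le_M_of_noncyclic ?_ inf_le_right (inf_le_left.trans c.Q_le_M)
      (c.Q.2.to_le inf_le_left) hcyc
    rw [← centralizer_closure, ← zpowers_eq_closure]
    exact c.centralizer_ne_top (by simpa using hu1)
  exfalso
  obtain ⟨S, huS, hSM, hS, hmax⟩ :=
    exists_maximal_le (c.isPGroup_zpowers hk) (zpowers_le.mpr huM)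
  set Z := (center S).map S.subtype with hZdef
  have hSA := hSM.trans c.M_le_normalizer_A
  have hZS : Z ≤ S := map_subtype_le _
  have hZc : ∀ z ∈ Z, ∀ s ∈ S, s * z = z * s := by
    rintro _ ⟨z, hz, rfl⟩ s hs
    exact congrArg Subtype.val (mem_center_iff.mp hz ⟨s, hs⟩)
  have huS' : u ∈ S := huS (mem_zpowers u)
  have hchar : normalizer (S : Set G) ≤ normalizer (Z : Set G) := fun g hg => by
    refine mem_normalizer_of_conj_mem ?_
    rintro _ ⟨z, hz, rfl⟩
    have hS' : ∀ s ∈ S, g * s * g⁻¹ ∈ S := fun s hs => (mem_normalizer_iff.mp hg s).mp hs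
    refine ⟨⟨g * z * g⁻¹, hS' z z.2⟩, mem_center_iff.mpr fun s => Subtype.ext ?_, rfl⟩
    have hs' : g⁻¹ * s * g ∈ S := (mem_normalizer_iff''.mp hg s).mp s.2
    have e : g⁻¹ * s * g * z = z * (g⁻¹ * s * g) :=
      congrArg Subtype.val (mem_center_iff.mp hz ⟨_, hs'⟩)
    show (s : G) * (g * z * g⁻¹) = g * z * g⁻¹ * s
    calc (s : G) * (g * z * g⁻¹) = g * (g⁻¹ * s * g * z) * g⁻¹ := by group
      _ = g * (z * (g⁻¹ * s * g)) * g⁻¹ := by rw [e]
      _ = g * z * g⁻¹ * s := by group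
  have hbC : b ∈ C := ⟨hbQ, mem_centralizer_singleton_iff.mpr hub.symm⟩
  set K := (c.Q : Subgroup G) ⊓ centralizer (Z : Set G) with hKdef
  have hbK : b ∈ K := by
    refine ⟨hbQ, mem_centralizer_iff.mpr fun z hz => ?_⟩
    obtain ⟨j, hj⟩ := exists_pow_of_mem hS (hZS hz)
    have hzn : z ∈ normalizer (C : Set G) := mem_normalizer_of_conj_mem fun y hy =>
      ⟨(le_normalizer_iff.mp le_rfl) z (c.normalizer_A_le_normalizer_Q (hSA (hZS hz))) y hy.1,
        mem_centralizer_singleton_iff.mpr (by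
          have e1 : u * z = z * u := hZc z hz u huS'
          have e2 := mem_centralizer_singleton_iff.mp hy.2
          have h1 : Commute u z := e1
          have h2 : Commute u y := e2.symm
          exact ((h1.mul_right h2).mul_right h1.inv_right).eq.symm)⟩
    exact mul_inv_eq_iff_eq_mul.mp (c.centralizes_of_cyclic (C := C) inf_le_left hj hzn b hbC)
  haveI := c.isMulCommutative_of_le (B := K) (inf_le_left.trans c.hQA)
  have hSne : S ≠ ⊥ := c.maximal_ne_bot hmax
  by_cases hK : IsCyclic K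
  · refine hb1 (c.eq_one_of_centralizes_normalizer hbQ fun n hn => ?_)
    have hle : c.M ≤ centralizer {b} := c.M_le_of_maximal hSM hS hmax
      (fun a ha => mem_centralizer_singleton_iff.mpr (c.A_comm ha (c.hQA hbQ)))
      fun s hs => by
        obtain ⟨j, hj⟩ := exists_pow_of_mem hS hs
        have hsn : s ∈ normalizer (K : Set G) := mem_normalizer_of_conj_mem fun y hy =>
          ⟨(le_normalizer_iff.mp le_rfl) s (c.normalizer_A_le_normalizer_Q (hSA hs)) y hy.1,
            mem_centralizer_iff.mpr fun z hz => by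
              have h1 : Commute z s := (hZc z hz s hs).symm
              have h2 : Commute z y := mem_centralizer_iff.mp hy.2 z hz
              exact ((h1.mul_right h2).mul_right h1.inv_right).eq⟩
        exact mem_centralizer_singleton_iff.mpr
          (mul_inv_eq_iff_eq_mul.mp (c.centralizes_of_cyclic (C := K) inf_le_left hj hsn b hbK))
    exact mem_centralizer_singleton_iff.mp (hle (c.normalizer_A_le_M hn))
  · have hZne : Z ≠ ⊥ := fun h => by
      haveI : Nontrivial S := (nontrivial_iff_ne_bot S).mpr hSne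
      exact (Subgroup.nontrivial_iff_ne_bot _).mp hS.center_nontrivial
        ((map_eq_bot_iff_of_injective _ S.subtype_injective).mp h)
    refine c.false_of_normalizer_le hSM hS hmax hchar ?_
    exact c.le_M_of_noncyclic (V := K)
      (c.normalizer_ne_top hZne (c.ne_top_of_isPGroup (hS.to_le hZS)))
      (inf_le_right.trans (centralizer_le_normalizer _)) (inf_le_left.trans c.Q_le_M)
      (c.Q.2.to_le inf_le_left) hK

/-- Every nontrivial `r`-subgroup gives a context. -/
theorem exists_ctx {r : ℕ} (hr : r.Prime) (hrp : r ≠ p) (hrd : r ∣ Nat.card G) {V : Subgroup G}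
    (hV : IsPGroup r V) : ∃ c' : Ctx p G, c'.q = r ∧ V ≤ (c'.Q : Subgroup G) := by
  haveI := Fact.mk hr
  obtain ⟨R, hR⟩ := hV.exists_le_sylow
  obtain ⟨k, hk⟩ := IsPGroup.iff_card.mp R.2
  obtain ⟨B, hRB, hB⟩ := Set.Finite.exists_le_maximal
    (s := {B : Subgroup G | (Nat.card B).Coprime p ∧ (R : Subgroup G) ≤ B})
    (Set.toFinite _) (a := (R : Subgroup G))
    ⟨hk ▸ ((Nat.coprime_primes hr hp.out).mpr hrp).pow_left k, le_rfl⟩
  exact ⟨{ c with q := r, hq := hr, hqp := hrp, hqd := hrd, A := B, hAcop := hB.1.1,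
                  hAmax := fun D hBD hD => (hB.eq_of_le ⟨hD, hRB.trans hBD⟩ hBD).symm,
                  Q := R, hQA := hRB }, rfl, hR⟩

/-- A nontrivial element of order prime to `p` normalising a Sylow `p`-subgroup `P` acts without
fixed points on `P`. -/
theorem eq_one_of_fixes (P : Sylow p G) {b u : G} (hb : b ∈ normalizer ((P : Subgroup G) : Set G))
    (hbc : (orderOf b).Coprime p) (hu : u ∈ (P : Subgroup G)) (hu1 : u ≠ 1)
    (hub : u * b = b * u) : b = 1 := by
  by_contra h1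
  set o := orderOf b with hodef
  have ho : o ≠ 1 := fun h => h1 (orderOf_eq_one_iff.mp h)
  set r := o.minFac with hrdef
  have hr : r.Prime := Nat.minFac_prime ho
  have hro : r ∣ o := Nat.minFac_dvd o
  have hrp : r ≠ p := fun e => hr.ne_one (Nat.eq_one_of_dvd_coprimes hbc hro (dvd_of_eq e))
  set b' := b ^ (o / r) with hb'def
  have hb'1 : b' ≠ 1 := fun h => by
    have hpos : 0 < o / r := Nat.div_pos (Nat.le_of_dvd (orderOf_pos b) hro) hr.pos
    exact absurd (Nat.le_of_dvd hpos (orderOf_dvd_of_pow_eq_one h))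
      (not_le.mpr (Nat.div_lt_self (orderOf_pos b) hr.one_lt))
  have hbr : b' ^ r ^ 1 = 1 := by
    rw [pow_one, hb'def, ← pow_mul, Nat.div_mul_cancel hro, hodef, pow_orderOf_eq_one]
  obtain ⟨c', hq, hV⟩ := c.exists_ctx hr hrp (hro.trans (orderOf_dvd_natCard b))
    (c.isPGroup_zpowers hbr)
  have hbQ : b' ∈ (c'.Q : Subgroup G) := hV (mem_zpowers b')
  have hb'n : b' ∈ normalizer ((P : Subgroup G) : Set G) := pow_mem hb _
  have hb'M : b' ∈ c'.M := c'.Q_le_M hbQ
  have hub' : u * b' = b' * u := ((show Commute u b from hub).pow_right _).eq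
  have huM : u ∈ c'.M :=
    c'.centralizer_le_M (c'.hQA hbQ) hb'1 (mem_centralizer_singleton_iff.mpr hub')
  set T := (P : Subgroup G) ⊓ c'.M with hTdef
  have hfix : ∀ t ∈ T, b' * t = t * b' := fun t ht => by
    have h1' : ⁅b', t⁆ ∈ (P : Subgroup G) := by
      rw [commutatorElement_def]
      exact mul_mem ((mem_normalizer_iff.mp hb'n t).mp ht.1) (inv_mem ht.1)
    have h2 : ⁅b', t⁆ ∈ c'.A := by
      rw [commutatorElement_def, show b' * t * b'⁻¹ * t⁻¹ = b' * (t * b'⁻¹ * t⁻¹) by group]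
      exact mul_mem (c'.hQA hbQ) (le_normalizer_iff.mp c'.M_le_normalizer_A t ht.2 _
        (inv_mem (c'.hQA hbQ)))
    exact commutatorElement_eq_one_iff_mul_comm.mp (eq_one_of_mem_mem c'.hAcop P.2 h2 h1')
  obtain ⟨k, hk⟩ := exists_pow_of_mem P.2 hu
  have hTP : T = (P : Subgroup G) := by
    refine inf_le_left.eq_or_lt.resolve_right fun hlt => ?_
    obtain ⟨n, hn, hnT⟩ := SetLike.exists_of_lt (Techniques.Functor.lt_nS P.2 hlt)
    obtain ⟨hnP, hnN⟩ : n ∈ (P : Subgroup G) ∧ n ∈ normalizer (T : Set G) := hn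
    refine hnT ⟨hnP, ?_⟩
    have hnu : n * u * n⁻¹ ∈ T := (mem_normalizer_iff.mp hnN u).mp ⟨hu, huM⟩
    have hcm : n⁻¹ * b' * n ∈ c'.M := by
      refine c'.centralizer_le_M_of_commute hk hu1 hbQ hb'1 hub'
        (mem_centralizer_singleton_iff.mpr ?_)
      have e := hfix _ hnu
      calc n⁻¹ * b' * n * u = n⁻¹ * (b' * (n * u * n⁻¹)) * n := by group
        _ = n⁻¹ * (n * u * n⁻¹ * b') * n := by rw [e]
        _ = u * (n⁻¹ * b' * n) := by group
    have h := c'.mem_M_of_conj hb'M hb'1 (k := 1) (g := n⁻¹) (by rw [hq]; exact hbr)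
      (by rwa [inv_inv])
    simpa using c'.M.inv_mem h
  exact hb'1 (c'.eq_one_of_normalizes_sylow P (hTP ▸ inf_le_right) hb'M hb'n
    (hbc.coprime_dvd_left (orderOf_pow_dvd _)))

end Ctx

end Cfsg.Agent.GStructC.SmallPPrime
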